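import Groth.Agent.ARLib.Basic

/-!
`J`-adic systems and systems `J`-adic up to translation.
-/

set_option linter.unusedSectionVars false

universe w v u

open CategoryTheory CategoryTheory.Limits Opposite ARSys

namespace Groth.Agent.ARLib

variable {C : Type u} [Category.{v} C] [Abelian C] {A : Type w} [CommRing A] [Linear A C]
  {J : Ideal A}

theorem pow_anti (J : Ideal A) {a b : ℕ} (h : a ≤ b) : J ^ b ≤ J ^ a := Ideal.pow_le_pow_right h

theorem adic_strict {X : PS C} (h : IsAdic J X) : IsStrict X :=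
  fun n m hnm => quot_epi (h.2 n m hnm)

theorem termKilled_of_mono {X Y : PS C} (i : X ⟶ Y) [Mono i] (h : TermKilled J Y) :
    TermKilled J X := fun n => have := mono_app i n; killed_of_mono (i.app (op n)) (h n)

theorem termKilled_of_epi {X Y : PS C} (p : X ⟶ Y) [Epi p] (h : TermKilled J X) :
    TermKilled J Y := fun n => have := epi_app p n; killed_of_epi (p.app (op n)) (h n)

/-- killed systems receive maps from translates of adic systems through the system itself -/
theorem existsUnique_hom_of_shift {X Y : PS C} (hX : IsAdic J X) (hY : TermKilled J Y) (r : ℕ)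
    (f : ∀ n, X.obj (op (n + r)) ⟶ Y.obj (op n))
    (hf : ∀ {a b : ℕ} (h : a ≤ b), tr X (Nat.add_le_add_right h r) ≫ f a = f b ≫ tr Y h) :
    ∃! g : X ⟶ Y, ∀ n, f n = sm X r n ≫ g.app (op n) := by
  choose g hg using fun n => quot_fac (hX.2 n (n + r) (Nat.le_add_right n r)) (f n)
    (killed_smul (hY n) (f n))
  refine ⟨{ app := fun n => g n.unop, naturality := ?_ }, fun n => (hg n).symm, fun g' hg' => ?_⟩
  · rintro ⟨a⟩ ⟨b⟩ φ
    have hba : b ≤ a := leOfHom φ.unop
    show tr X hba ≫ g b = g a ≫ tr Y hba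
    refine strict_cancel (adic_strict hX) (Nat.le_add_right a r) ?_
    rw [tr_comp_assoc, ← tr_comp_assoc X (Nat.le_add_right b r) (Nat.add_le_add_right hba r), hg,
      hf, ← Category.assoc, hg]
  · ext ⟨n⟩
    exact strict_cancel (adic_strict hX) (Nat.le_add_right n r) ((hg' n).symm.trans (hg n).symm)

theorem exists_arIso_of_qinv {X Y Z : PS C} (hY : IsAdic J Y) (hX : TermKilled J X)
    {v : Z ⟶ X} {r s : ℕ} (qv : QInv v s) (w : ∀ n, Y.obj (op (n + r)) ⟶ Z.obj (op n))
    (hw : ∀ {a b : ℕ} (h : a ≤ b), tr Y (Nat.add_le_add_right h r) ≫ w a = w b ≫ tr Z h)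
    (w' : ∀ n, Z.obj (op n) ⟶ Y.obj (op n))
    (hw' : ∀ {a b : ℕ} (h : a ≤ b), tr Z h ≫ w' a = w' b ≫ tr Y h)
    (h1 : ∀ n, w' (n + r) ≫ w n = sm Z r n) (h2 : ∀ n, w n ≫ w' n = sm Y r n) :
    ∃ u : Y ⟶ X, IsARIso u := by
  obtain ⟨u, hu, -⟩ := existsUnique_hom_of_shift hY hX r (fun n => w n ≫ v.app (op n))
    (fun {a b} h => by rw [← Category.assoc, hw, Category.assoc, tr_nat, Category.assoc])
  refine ⟨u, isARIso_of_bounds (r := r + s + r) (s := r + s) ?_ ?_⟩
  · intro n T x hx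
    refine (cancel_epi (𝟙 T)).1 ?_
    obtain ⟨T', e, he, y, hy⟩ := (epi_iff_surjective_up_to_refinements
      (sm Y r (n + (r + s + r)))).1 (adic_strict hY _ _ _) x
    rw [Category.id_comp, Category.id_comp, ← cancel_epi e, comp_zero]
    have k1 : (y ≫ w (n + (r + s + r))) ≫ v.app (op (n + (r + s + r))) = 0 := by
      rw [Category.assoc, hu, ← Category.assoc, ← hy, Category.assoc, hx, comp_zero]
    have k2 := qv.kerBound.mono (show s ≤ r + s + r by omega) n (y ≫ w (n + (r + s + r))) k1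
    rw [sm, Category.assoc, ← hw] at k2
    rw [sm, ← Category.assoc, hy, Category.assoc, tr_comp]
    have k3 := k2 =≫ w' n
    rw [Category.assoc, Category.assoc, h2, zero_comp, sm, tr_comp] at k3
    exact k3
  · intro n T ψ hψ
    have k2 : w n ≫ v.app (op n) ≫ ψ = 0 := by
      rw [← Category.assoc, hu, Category.assoc, hψ, comp_zero]
    have k3 := w' (n + r) ≫= k2
    rw [← Category.assoc (w' (n + r)), h1, comp_zero, sm, tr_nat_assoc] at k3
    have k4 := qv.v (n + r) ≫= k3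
    rw [← Category.assoc (qv.v (n + r)), qv.vu, comp_zero, sm, tr_comp_assoc] at k4
    have k5 := tr X (le_of_eq (show n + r + s = n + (r + s) by omega)) ≫= k4
    rw [tr_comp_assoc, comp_zero] at k5
    exact k5

/-- Being `J`-adic up to translation is invariant under isomorphisms up to translation. -/
theorem arAdic_of_src {X X' : PS C} (u : X' ⟶ X) (hu : IsARIso u) (hX : TermKilled J X)
    (h : IsARAdic J X') : IsARAdic J X := by
  obtain ⟨-, Y, v, hY, hv⟩ := h
  exact ⟨hX, Y, v ≫ u, hY, isARIso_comp hv hu⟩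

theorem isARIso_of_comp_left {X Y Z : PS C} {u : X ⟶ Y} {u' : Y ⟶ Z} (h' : IsARIso u')
    (h : IsARIso (u ≫ u')) : IsARIso u := by
  obtain ⟨r, hk, hc⟩ := exists_bounds h
  obtain ⟨s, hk', hc'⟩ := exists_bounds h'
  refine isARIso_of_bounds (r := r) (s := s + r) ?_ ?_
  · intro n T x hx
    exact hk n x (by rw [NatTrans.comp_app, ← Category.assoc, hx, zero_comp])
  · intro n T ψ hψ
    have key : ∀ n {T : C} (ψ : Y.obj (op n) ⟶ T), u.app (op n) ≫ ψ = 0 →
        sm Y (s + r) n ≫ ψ = 0 := by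
      intro n T ψ hψ
      have hlift : ∀ {T' : C} (x : T' ⟶ Y.obj (op (n + (s + r)))),
          ∃ (T'' : C) (e : T'' ⟶ T') (_ : Epi e) (y : T'' ⟶ X.obj (op n)),
            e ≫ x ≫ sm Y (s + r) n = y ≫ u.app (op n) := by
        intro T' x
        have h1 : (imageSubobject ((u ≫ u').app (op (n + s)))).Factors
            (x ≫ tr Y (le_of_eq (show n + s + r = n + (s + r) by omega)) ≫
              sm Y r (n + s) ≫ u'.app (op (n + s))) := by
          refine (mem_iff_comp_cokernel _ _).2 ?_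
          rw [sm, tr_nat, Category.assoc, Category.assoc, Category.assoc, hc (n + s) _
            ((mem_iff_comp_cokernel _ _).1 (by simpa using mem_image_self _ (𝟙 _))), comp_zero,
            comp_zero, comp_zero]
        obtain ⟨T'', e, he, y, hy⟩ := (mem_image _ _).1 h1
        rw [NatTrans.comp_app] at hy
        have h2 := hk' n (e ≫ x ≫ tr Y (le_of_eq (show n + s + r = n + (s + r) by omega)) ≫
          sm Y r (n + s) - y ≫ u.app (op (n + s))) (by
            simp only [Preadditive.sub_comp, Category.assoc] at hy ⊢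
            rw [hy, sub_self])
        rw [Preadditive.sub_comp, sub_eq_zero] at h2
        refine ⟨T'', e, he, y ≫ sm X s n, ?_⟩
        rw [Category.assoc y, sm, tr_nat, ← Category.assoc y, ← h2]
        simp only [Category.assoc, sm, tr_comp]
      obtain ⟨T'', e, he, y, hy⟩ := hlift (𝟙 _)
      rw [← cancel_epi e, comp_zero, ← Category.assoc]
      rw [Category.id_comp] at hy
      rw [hy, Category.assoc, hψ, comp_zero]
    exact key n ψ hψ

theorem arAdic_of_tgt {X X' : PS C} (u : X' ⟶ X) (hu : IsARIso u) (hX' : TermKilled J X')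
    (h : IsARAdic J X) : IsARAdic J X' := by
  obtain ⟨-, Y, v, hY, hv⟩ := h
  obtain ⟨t, ⟨q⟩⟩ := exists_qinv hu
  obtain ⟨w, hw, -⟩ := existsUnique_hom_of_shift hY hX' t (fun n => v.app (op (n + t)) ≫ q.v n)
    (fun {a b} h => by rw [tr_nat_assoc, q.v_tr, Category.assoc])
  refine ⟨hX', Y, w, hY, isARIso_of_comp_left hu ?_⟩
  have : w ≫ u = v := by
    ext ⟨n⟩
    refine strict_cancel (adic_strict hY) (Nat.le_add_right n t) ?_
    rw [NatTrans.comp_app, ← Category.assoc]
    show (sm Y t n ≫ w.app (op n)) ≫ _ = _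
    rw [← hw, Category.assoc, q.vu, tr_nat]
  rw [this]
  exact hv

theorem mlar_of_arAdic {X : PS C} (h : IsARAdic J X) : IsMLAR X := by
  obtain ⟨-, Y, u, hY, hu⟩ := h
  exact mlar_of_iso_src hu (mlar_of_strict (adic_strict hY))

/-! ### short exact sequences of systems -/

variable {S : ShortComplex (PS C)}

theorem strict_X₃ (hS : S.ShortExact) (h : IsStrict S.X₂) : IsStrict S.X₃ := by
  intro n m hnm
  have : Epi S.g := hS.epi_g
  have := h n m hnm
  have := epi_app S.g n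
  refine epi_of_epi_fac (f := S.g.app (op m)) (h := tr S.X₂ hnm ≫ S.g.app (op n)) ?_
  exact (tr_nat S.g hnm).symm

theorem adic_X₃ (hS : S.ShortExact) (h₁ : IsStrict S.X₁) (h₂ : IsAdic J S.X₂) : IsAdic J S.X₃ := by
  have : Epi S.g := hS.epi_g
  refine ⟨termKilled_of_epi S.g h₂.1, fun n m hnm => ?_⟩
  have := strict_X₃ hS (adic_strict h₂) n m hnm
  refine isQuot_mk _ (termKilled_of_epi S.g h₂.1 n) fun Z φ hφ => ?_
  obtain ⟨ψ, hψ⟩ := quot_fac (h₂.2 n m hnm) (S.g.app (op m) ≫ φ) (hom_killed_precomp _ hφ)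
  have hz : S.f.app (op n) ≫ ψ = 0 := by
    refine strict_cancel_zero h₁ hnm ?_
    rw [tr_nat_assoc, hψ, ← Category.assoc, short_f_g, zero_comp]
  obtain ⟨χ, hχ⟩ := exact_desc hS n ψ hz
  refine ⟨χ, ?_⟩
  have := epi_app S.g m
  rw [← cancel_epi (S.g.app (op m)), ← tr_nat_assoc, hχ, hψ]

theorem strict_X₁ (hS : S.ShortExact) (k₂ : TermKilled J S.X₂) (h₂ : IsStrict S.X₂)
    (h₃ : IsAdic J S.X₃) : IsStrict S.X₁ := by
  intro n m hnm
  have : Mono S.f := hS.mono_f
  refine epi_of_cancel fun Z χ hχ => ?_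
  have := mono_app S.f n
  obtain ⟨Q, p, i, hi, hp, hQ, hpi⟩ := exists_killed_factor
    (killed_smul' (killed_of_mono (S.f.app (op n)) (k₂ n)) χ)
  obtain ⟨P, j, ψ, hj, hP, hψ⟩ := extend_mono_killed (S.f.app (op n)) p (k₂ n) hQ
  have hp0 : tr S.X₁ hnm ≫ p = 0 := by
    rw [← cancel_mono i, Category.assoc, hpi, hχ, zero_comp]
  obtain ⟨φ, hφ⟩ := exact_desc hS m (tr S.X₂ hnm ≫ ψ) (by
    rw [← tr_nat_assoc, hψ, ← Category.assoc, hp0, zero_comp])
  obtain ⟨φ', rfl⟩ := quot_fac (h₃.2 n m hnm) φ (killed_smul hP φ)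
  rw [← tr_nat_assoc] at hφ
  have h0 : S.f.app (op n) ≫ ψ = 0 := by
    rw [← strict_cancel h₂ hnm hφ, ← Category.assoc, short_f_g, zero_comp]
  rw [hψ] at h0
  rw [← hpi, show p = 0 from (cancel_mono j).1 (h0.trans zero_comp.symm), zero_comp]

theorem strict_X₂ (hS : S.ShortExact) (h₁ : IsStrict S.X₁) (h₃ : IsStrict S.X₃) :
    IsStrict S.X₂ := by
  intro n m hnm
  have : Epi S.g := hS.epi_g
  refine epi_of_cancel fun Z ψ hψ => ?_
  have hz : S.f.app (op n) ≫ ψ = 0 := by
    refine strict_cancel_zero h₁ hnm ?_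
    rw [tr_nat_assoc, hψ, comp_zero]
  obtain ⟨e, rfl⟩ := exact_desc hS n ψ hz
  rw [tr_nat_assoc] at hψ
  have := epi_app S.g m
  have : e = 0 := strict_cancel_zero h₃ hnm ((cancel_epi _).1 (hψ.trans comp_zero.symm))
  rw [this, comp_zero]

theorem adic_X₂ (hS : S.ShortExact) (k₂ : TermKilled J S.X₂) (h₁ : IsAdic J S.X₁)
    (h₃ : IsAdic J S.X₃) : IsAdic J S.X₂ := by
  have : Mono S.f := hS.mono_f
  have : Epi S.g := hS.epi_g
  refine ⟨k₂, fun n m hnm => ?_⟩
  have := strict_X₂ hS (adic_strict h₁) (adic_strict h₃) n m hnm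
  refine isQuot_mk_of_kernel _ (k₂ n) fun Z φ hφ => ?_
  obtain ⟨Q, p, i, hi, hp, hQ, hpi⟩ := exists_killed_factor hφ
  have hpK : HomKilledBy (J ^ (n + 1)) p := killed_smul hQ p
  obtain ⟨χ, hχ⟩ := quot_fac (h₁.2 n m hnm) (S.f.app (op m) ≫ p) (hom_killed_precomp _ hpK)
  have := mono_app S.f n
  obtain ⟨P, j, ψ, hj, hP, hψ⟩ := extend_mono_killed (S.f.app (op n)) χ (k₂ n) hQ
  obtain ⟨e, he⟩ := exact_desc hS m (p ≫ j - tr S.X₂ hnm ≫ ψ) (by
    rw [Preadditive.comp_sub, ← Category.assoc, ← tr_nat_assoc, hψ, ← hχ, Category.assoc,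
      sub_self])
  obtain ⟨e', rfl⟩ := quot_fac (h₃.2 n m hnm) e (killed_smul hP e)
  rw [← tr_nat_assoc, eq_sub_iff_add_eq, ← Preadditive.comp_add] at he
  have h0 : kernel.ι (tr S.X₂ hnm) ≫ p ≫ j = 0 := by
    rw [← he, ← Category.assoc, kernel.condition, zero_comp]
  rw [← hpi, ← Category.assoc, show kernel.ι (tr S.X₂ hnm) ≫ p = 0 from
    (cancel_mono j).1 (by rw [Category.assoc, h0, zero_comp]), zero_comp]

/-! ### strict systems -/

/-- translate-and-reduce data: `Y` is `X[r] ⊗ A/J^{n+1}` -/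
theorem isARAdic_of_quot_shift {X : PS C} (hX : IsStrict X) (kX : TermKilled J X) {r : ℕ}
    {Y : PS C} (q : ∀ n, X.obj (op (n + r)) ⟶ Y.obj (op n))
    (hq : ∀ {a b : ℕ} (h : a ≤ b), tr X (Nat.add_le_add_right h r) ≫ q a = q b ≫ tr Y h)
    (hquot : ∀ n, IsQuot (J ^ (n + 1)) (q n)) (hY : IsAdic J Y) : IsARAdic J X := by
  choose w hw using fun n => quot_fac (hquot n) (sm X r n) (killed_smul (kX n) _)
  have hw_nat : ∀ {a b : ℕ} (h : a ≤ b), tr Y h ≫ w a = w b ≫ tr X h := by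
    intro a b h
    have := quot_epi (hquot b)
    rw [← cancel_epi (q b), ← Category.assoc, ← hq, Category.assoc, hw, ← Category.assoc, hw,
      sm, sm, tr_comp, tr_comp]
  let u : Y ⟶ X := { app := fun n => w n.unop, naturality := fun a b f => hw_nat (leOfHom f.unop) }
  have q' : QInv u r := {
    v := q
    v_tr := hq
    vu := hw
    uv := fun n => by
      have := quot_epi (hquot (n + r))
      show w (n + r) ≫ q n = sm Y r n
      rw [← cancel_epi (q (n + r)), ← Category.assoc, hw, sm, hq] }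
  exact ⟨kX, Y, u, hY, q'.isARIso⟩

theorem exists_quot_shift {X : PS C} (hX : IsStrict X) (h : IsARAdic J X) :
    ∃ (r : ℕ) (Y : PS C) (u : Y ⟶ X) (q : QInv u r), IsAdic J Y ∧
      ∀ n, IsQuot (J ^ (n + 1)) (q.v n) := by
  obtain ⟨-, Y, u, hY, hu⟩ := h
  obtain ⟨r, ⟨q⟩⟩ := exists_qinv hu
  refine ⟨r, Y, u, q, hY, fun n => ?_⟩
  have hue : ∀ m, Epi (u.app (op m)) := fun m => epi_of_coker_strict hu hX m
  have : Epi (q.v n) := by
    refine epi_of_cancel fun Z ψ hψ => strict_cancel_zero (adic_strict hY) (Nat.le_add_right n r) ?_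
    show sm Y r n ≫ ψ = 0
    rw [← q.uv, Category.assoc, hψ, comp_zero]
  refine isQuot_mk _ (hY.1 n) fun Z φ hφ => ?_
  obtain ⟨ψ, hψ⟩ := quot_fac (hY.2 n (n + r) (Nat.le_add_right n r)) (u.app (op (n + r)) ≫ φ)
    (hom_killed_precomp _ hφ)
  refine ⟨ψ, ?_⟩
  have := hue (n + r)
  rw [← cancel_epi (u.app (op (n + r))), ← Category.assoc, q.uv, hψ]

/-- the Artin-Rees type condition, at the level of maps -/
def ARCond (J : Ideal A) (X : PS C) (r : ℕ) : Prop :=
  ∀ (k : ℕ) ⦃Z : C⦄ (φ : X.obj (op (k + 1)) ⟶ Z), HomKilledBy (J ^ (k + 1 - r)) φ →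
    ∀ ⦃T : C⦄ (x : T ⟶ X.obj (op (k + 1))), x ≫ tr X (Nat.le_succ k) = 0 → x ≫ φ = 0

theorem ARCond.mono {X : PS C} {r s : ℕ} (h : ARCond J X r) (hs : r ≤ s) : ARCond J X s :=
  fun k _ φ hφ => h k φ (hom_killed_anti (pow_anti J (by omega)) hφ)

theorem arCond_of_arAdic {X : PS C} (hX : IsStrict X) (h : IsARAdic J X) : ∃ r, ARCond J X r := by
  obtain ⟨r, Y, u, q, hY, hq⟩ := exists_quot_shift hX h
  refine ⟨r + 1, fun k Z φ hφ T x hx => ?_⟩
  rcases Nat.lt_or_ge k r with hk | hk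
  · rw [show k + 1 - (r + 1) = 0 by omega, pow_zero, Ideal.one_eq_top] at hφ
    rw [killed_top_zero hφ, comp_zero]
  obtain ⟨n, rfl⟩ := Nat.exists_eq_add_of_le' hk
  have hquot : IsQuot (J ^ (n + 1)) (tr X (le_of_eq (show n + 1 + r = n + r + 1 by omega)) ≫
      q.v (n + 1) ≫ tr Y (Nat.le_succ n)) := by
    have := isIso_tr_of_eq X (le_of_eq (show n + 1 + r = n + r + 1 by omega)) (by omega)
    exact quot_iso_left _ (quot_comp (pow_anti J (by omega)) (hq (n + 1)) (hY.2 n (n + 1) _))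
  refine quot_vanish hquot (hom_killed_anti (pow_anti J (by omega)) hφ) ?_
  rw [← q.v_tr, tr_comp_assoc, ← tr_comp_assoc X le_rfl (Nat.le_succ (n + r)), ← Category.assoc,
    hx, zero_comp]

theorem arAdic_of_arCond (hJ : J.FG ∨ HasCoproducts.{w} C) {X : PS C} (hX : IsStrict X)
    (kX : TermKilled J X) {r : ℕ} (h : ARCond J X r) : IsARAdic J X := by
  choose Q q hq using fun n => exists_quot_pow hJ (n + 1) (X.obj (op (n + r)))
  have key : ∀ {a b : ℕ} (hab : a ≤ b),
      IsQuot (J ^ (a + 1)) (tr X (Nat.add_le_add_right hab r) ≫ q a) := by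
    intro a b hab
    induction b, hab using Nat.le_induction with
    | base => rw [tr_refl, Category.id_comp]; exact hq a
    | succ b hab ih =>
      have := hX _ _ (Nat.add_le_add_right (hab.trans (Nat.le_succ b)) r)
      have := quot_epi (hq a)
      refine isQuot_mk _ (hq a).1 fun Z φ hφ => ?_
      have hle : b + r ≤ b + 1 + r := by omega
      have := hX _ _ hle
      have hz : kernel.ι (tr X hle) ≫ φ = 0 := by
        have e1 := isIso_tr_of_eq X (le_of_eq (show b + r + 1 = b + 1 + r by omega)) (by omega)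
        obtain ⟨φ', rfl⟩ : ∃ φ', tr X (le_of_eq (show b + r + 1 = b + 1 + r by omega)) ≫ φ' = φ :=
          ⟨inv (tr X _) ≫ φ, IsIso.hom_inv_id_assoc _ _⟩
        rw [← Category.assoc]
        refine h (b + r) φ' (hom_killed_anti (pow_anti J (by omega)) (hom_killed_of_epi _ hφ)) _ ?_
        rw [Category.assoc, tr_comp, kernel.condition]
      obtain ⟨φ₁, hφ₁⟩ : ∃ φ₁, tr X hle ≫ φ₁ = φ :=
        ⟨Abelian.epiDesc _ φ hz, Abelian.comp_epiDesc _ _ _⟩
      obtain ⟨ψ, hψ⟩ := quot_fac ih φ₁ (hom_killed_of_epi (tr X hle) (hφ₁ ▸ hφ))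
      refine ⟨ψ, ?_⟩
      rw [← hφ₁, ← hψ, Category.assoc, Category.assoc, tr_comp_assoc]
  choose t ht using fun (a b : ℕ) (hab : a ≤ b) =>
    quot_fac (hq b) (tr X (Nat.add_le_add_right hab r) ≫ q a)
      (killed_smul (killed_anti (pow_anti J (by omega)) (hq a).1) _)
  have ht_comp : ∀ {a b c : ℕ} (hab : a ≤ b) (hbc : b ≤ c),
      t b c hbc ≫ t a b hab = t a c (hab.trans hbc) := by
    intro a b c hab hbc
    have := quot_epi (hq c)
    rw [← cancel_epi (q c), ← Category.assoc, ht, Category.assoc, ht, ht, tr_comp_assoc]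
  have ht_id : ∀ a, t a a le_rfl = 𝟙 (Q a) := by
    intro a
    have := quot_epi (hq a)
    rw [← cancel_epi (q a), ht, tr_refl, Category.id_comp, Category.comp_id]
  let Y : PS C := {
    obj := fun n => Q n.unop
    map := fun {a b} f => t b.unop a.unop (leOfHom f.unop)
    map_id := fun a => ht_id a.unop
    map_comp := fun f g => (ht_comp _ _).symm }
  have hY : IsAdic J Y := by
    refine ⟨fun n => (hq n).1, fun a b hab => ?_⟩
    have := quot_epi (hq b)
    refine quot_of_epi_comp (q b) ?_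
    show IsQuot _ (q b ≫ t a b hab)
    rw [ht]
    exact key hab
  exact isARAdic_of_quot_shift hX kX (Y := Y) q (fun {a b} h => (ht a b h).symm) hq hY

theorem fker_iff (X : PS C) (r : ℕ) (hr : 0 < r) :
    (∀ n, SubLEIdeal (J ^ (n - r)) (Fker X n)) ↔ ARCond J X r := by
  constructor
  · intro h k Z φ hφ T x hx
    have hmem : (Fker X (k + 1)).Factors x := (mem_kernel _ _).2 hx
    rw [← Subobject.factorThru_arrow _ _ hmem, Category.assoc, h (k + 1) Z φ hφ, comp_zero]
  · intro h n Z φ hφ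
    cases n with
    | zero =>
      rw [show 0 - r = 0 by omega, pow_zero, Ideal.one_eq_top] at hφ
      rw [killed_top_zero hφ, comp_zero]
    | succ k => exact h k φ hφ _ (kernelSubobject_arrow_comp _)

end Groth.Agent.ARLib
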