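import Groth.Agent.ARLib.Quot
import Mathlib.CategoryTheory.Limits.FunctorCategory.EpiMono

/-!
Basic theory of `ARSys`: transition maps, translation, null systems, quasi-inverses, uniform
Mittag-Leffler systems, strict images.
-/

set_option linter.unusedSectionVars false

universe w v u

open CategoryTheory CategoryTheory.Limits Opposite ARSys

namespace Groth.Agent.ARLib

variable {C : Type u} [Category.{v} C]

section Tr

theorem tr_comp (X : PS C) {a b c : ℕ} (h : a ≤ b) (h' : b ≤ c) :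
    tr X h' ≫ tr X h = tr X (h.trans h') := by
  rw [← X.map_comp]
  rfl

theorem tr_refl (X : PS C) {a : ℕ} (h : a ≤ a) : tr X h = 𝟙 (X.obj (op a)) := by
  exact X.map_id (op a)

theorem tr_nat {X Y : PS C} (f : X ⟶ Y) {a b : ℕ} (h : a ≤ b) :
    tr X h ≫ f.app (op a) = f.app (op b) ≫ tr Y h := f.naturality _

theorem tr_nat_assoc {X Y : PS C} (f : X ⟶ Y) {a b : ℕ} (h : a ≤ b) {Z : C}
    (k : Y.obj (op a) ⟶ Z) : tr X h ≫ f.app (op a) ≫ k = f.app (op b) ≫ tr Y h ≫ k := by
  rw [← Category.assoc, tr_nat, Category.assoc]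

theorem tr_comp_assoc (X : PS C) {a b c : ℕ} (h : a ≤ b) (h' : b ≤ c) {Z : C}
    (k : X.obj (op a) ⟶ Z) : tr X h' ≫ tr X h ≫ k = tr X (h.trans h') ≫ k := by
  rw [← Category.assoc, tr_comp]

theorem isIso_tr_of_eq (X : PS C) {a b : ℕ} (h : a ≤ b) (e : a = b) : IsIso (tr X h) := by
  subst e
  rw [tr_refl]
  infer_instance

theorem epi_tr_of_succ (X : PS C) (h : ∀ n, Epi (tr X (Nat.le_succ n))) : IsStrict X := by
  intro n m hnm
  induction m, hnm using Nat.le_induction with
  | base => rw [tr_refl]; infer_instance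
  | succ m hm ih =>
    have := h m
    rw [← tr_comp X hm (Nat.le_succ m)]
    infer_instance

/-- the transition map `X (n+r) ⟶ X n`, typed without `shift` -/
abbrev sm (X : PS C) (r n : ℕ) : X.obj (op (n + r)) ⟶ X.obj (op n) := tr X (Nat.le_add_right n r)

/-- the translation map `X[r] ⟶ X` -/
def shiftNat (X : PS C) (r : ℕ) : (shift C r).obj X ⟶ X where
  app n := shiftMap X r n.unop
  naturality {n m} f := by
    show tr X (Nat.add_le_add_right (leOfHom f.unop) r) ≫ tr X (Nat.le_add_right m.unop r) =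
      tr X (Nat.le_add_right n.unop r) ≫ tr X (leOfHom f.unop)
    rw [tr_comp, tr_comp]

theorem shiftNat_app (X : PS C) (r n : ℕ) : (shiftNat X r).app (op n) = sm X r n := rfl

theorem shift_tr (X : PS C) (r : ℕ) {a b : ℕ} (h : a ≤ b) :
    tr ((shift C r).obj X) h = tr X (Nat.add_le_add_right h r) := rfl

theorem isStrict_shift {X : PS C} (h : IsStrict X) (r : ℕ) : IsStrict ((shift C r).obj X) :=
  fun _ _ hnm => h _ _ (Nat.add_le_add_right hnm r)

theorem strict_cancel {X : PS C} (hX : IsStrict X) {n m : ℕ} (h : n ≤ m) {Z : C}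
    {ψ ψ' : X.obj (op n) ⟶ Z} (e : tr X h ≫ ψ = tr X h ≫ ψ') : ψ = ψ' := by
  have := hX n m h
  exact (cancel_epi _).1 e

theorem tr_from_le (X : PS C) {n r s : ℕ} (h : r ≤ s) :
    tr X (Nat.add_le_add_left h n) ≫ sm X r n = sm X s n := tr_comp X _ _

end Tr

variable [Abelian C]

theorem mono_app {X Y : PS C} (f : X ⟶ Y) [h : Mono f] (n : ℕ) : Mono (f.app (op n)) :=
  (NatTrans.mono_iff_mono_app f).1 h _

theorem epi_app {X Y : PS C} (f : X ⟶ Y) [h : Epi f] (n : ℕ) : Epi (f.app (op n)) :=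
  (NatTrans.epi_iff_epi_app f).1 h _

theorem strict_cancel_zero {X : PS C} (hX : IsStrict X) {n m : ℕ} (h : n ≤ m) {Z : C}
    {ψ : X.obj (op n) ⟶ Z} (e : tr X h ≫ ψ = 0) : ψ = 0 :=
  strict_cancel hX h (e.trans comp_zero.symm)

section Null

theorem isARNull_of_mono {X Y : PS C} (i : X ⟶ Y) [∀ n : ℕ, Mono (i.app (op n))]
    (h : IsARNull Y) : IsARNull X := by
  obtain ⟨r, hr⟩ := h
  refine ⟨r, fun n => ?_⟩
  show sm X r n = 0
  have hr : ∀ n, sm Y r n = 0 := hr
  rw [← cancel_mono (i.app (op n)), zero_comp, sm, tr_nat]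
  exact (congrArg _ (hr n)).trans comp_zero

theorem isARNull_of_epi {X Y : PS C} (p : X ⟶ Y) [∀ n : ℕ, Epi (p.app (op n))]
    (h : IsARNull X) : IsARNull Y := by
  obtain ⟨r, hr⟩ := h
  refine ⟨r, fun n => ?_⟩
  show sm Y r n = 0
  have hr : ∀ n, sm X r n = 0 := hr
  rw [← cancel_epi (p.app (op (n + r))), comp_zero, sm, ← tr_nat]
  exact (congrArg (· ≫ _) (hr n)).trans zero_comp

theorem null_mono_index {X : PS C} {r s : ℕ} (h : ∀ n, sm X r n = 0) (hs : r ≤ s) (n : ℕ) :
    sm X s n = 0 := by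
  rw [← tr_from_le X hs, h, comp_zero]

end Null

/-- kernel part of "isomorphism up to translation", with bound `r` -/
def KerBound {X Y : PS C} (u : X ⟶ Y) (r : ℕ) : Prop :=
  ∀ (n : ℕ) ⦃T : C⦄ (x : T ⟶ X.obj (op (n + r))), x ≫ u.app (op (n + r)) = 0 →
    x ≫ sm X r n = 0

/-- cokernel part of "isomorphism up to translation", with bound `r` -/
def CokerBound {X Y : PS C} (u : X ⟶ Y) (r : ℕ) : Prop :=
  ∀ (n : ℕ) ⦃T : C⦄ (ψ : Y.obj (op n) ⟶ T), u.app (op n) ≫ ψ = 0 → sm Y r n ≫ ψ = 0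

/-- a quasi-inverse with delay `r` -/
structure QInv {X Y : PS C} (u : X ⟶ Y) (r : ℕ) where
  v : ∀ n : ℕ, Y.obj (op (n + r)) ⟶ X.obj (op n)
  v_tr : ∀ {a b : ℕ} (h : a ≤ b), tr Y (Nat.add_le_add_right h r) ≫ v a = v b ≫ tr X h
  vu : ∀ n, v n ≫ u.app (op n) = sm Y r n
  uv : ∀ n, u.app (op (n + r)) ≫ v n = sm X r n

/-- the quasi-inverse as a morphism of systems -/
def QInv.hom {X Y : PS C} {u : X ⟶ Y} {r : ℕ} (q : QInv u r) : (shift C r).obj Y ⟶ X where
  app n := q.v n.unop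
  naturality a b f := q.v_tr (leOfHom f.unop)

theorem QInv.kerBound {X Y : PS C} {u : X ⟶ Y} {r : ℕ} (q : QInv u r) : KerBound u r := by
  intro n T x hx
  rw [← q.uv, ← Category.assoc, hx, zero_comp]

theorem QInv.cokerBound {X Y : PS C} {u : X ⟶ Y} {r : ℕ} (q : QInv u r) : CokerBound u r := by
  intro n T ψ hψ
  rw [← q.vu, Category.assoc, hψ, comp_zero]

theorem mid_lift {S : ShortComplex (PS C)} (hS : S.Exact) (n : ℕ) {T : C}
    (x : T ⟶ S.X₂.obj (op n)) (h : x ≫ S.g.app (op n) = 0) :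
    ∃ (T' : C) (e : T' ⟶ T) (_ : Epi e) (y : T' ⟶ S.X₁.obj (op n)), e ≫ x = y ≫ S.f.app (op n) :=
  (hS.map ((evaluation ℕᵒᵖ C).obj (op n))).exact_up_to_refinements x h

theorem isARNull_kernel_iff {X Y : PS C} (u : X ⟶ Y) (r : ℕ) :
    (∀ n, sm (kernel u) r n = 0) ↔ KerBound u r := by
  constructor
  · intro h n T x hx
    let S : ShortComplex (PS C) := ShortComplex.mk (kernel.ι u) u (kernel.condition u)
    have hS : S.Exact := ShortComplex.exact_of_f_is_kernel _ (kernelIsKernel u)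
    obtain ⟨T', e, he, y, (hy : e ≫ x = y ≫ (kernel.ι u).app (op (n + r)))⟩ :=
      mid_lift hS (n + r) x hx
    rw [← cancel_epi e, comp_zero, ← Category.assoc, hy]
    rw [Category.assoc, ← tr_nat]
    exact (congrArg (fun z => y ≫ z ≫ _) (h n)).trans (by simp)
  · intro h n
    have : Mono ((kernel.ι u).app (op n)) := mono_app _ _
    rw [← cancel_mono ((kernel.ι u).app (op n)), zero_comp, sm, tr_nat]
    refine h n _ ?_
    rw [← NatTrans.comp_app, kernel.condition]
    rfl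

theorem isARNull_cokernel_iff {X Y : PS C} (u : X ⟶ Y) (r : ℕ) :
    (∀ n, sm (cokernel u) r n = 0) ↔ CokerBound u r := by
  constructor
  · intro h n T ψ hψ
    let S : ShortComplex (PS C) := ShortComplex.mk u (cokernel.π u) (cokernel.condition u)
    have hS : S.Exact := ShortComplex.exact_of_g_is_cokernel _ (cokernelIsCokernel u)
    have hS' := hS.map ((evaluation ℕᵒᵖ C).obj (op n))
    have : Epi (S.map ((evaluation ℕᵒᵖ C).obj (op n))).g := by
      exact epi_app (cokernel.π u) n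
    obtain ⟨χ, hχ⟩ : ∃ χ : (cokernel u).obj (op n) ⟶ T, (cokernel.π u).app (op n) ≫ χ = ψ :=
      let ⟨χ, hχ⟩ := CokernelCofork.IsColimit.desc' hS'.gIsCokernel ψ hψ
      ⟨χ, hχ⟩
    rw [← hχ, tr_nat_assoc]
    exact (congrArg (fun z => _ ≫ z ≫ χ) (h n)).trans (by rw [zero_comp, comp_zero])
  · intro h n
    have := epi_app (cokernel.π u) (n + r)
    rw [← cancel_epi ((cokernel.π u).app (op (n + r))), comp_zero, sm, ← tr_nat]
    refine h n _ ?_
    rw [← NatTrans.comp_app, cokernel.condition]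
    rfl

theorem KerBound.mono {X Y : PS C} {u : X ⟶ Y} {r s : ℕ} (h : KerBound u r) (hs : r ≤ s) :
    KerBound u s :=
  (isARNull_kernel_iff u s).1 (null_mono_index ((isARNull_kernel_iff u r).2 h) hs)

theorem CokerBound.mono {X Y : PS C} {u : X ⟶ Y} {r s : ℕ} (h : CokerBound u r) (hs : r ≤ s) :
    CokerBound u s :=
  (isARNull_cokernel_iff u s).1 (null_mono_index ((isARNull_cokernel_iff u r).2 h) hs)

theorem isARNull_iff (X : PS C) : IsARNull X ↔ ∃ r, ∀ n, sm X r n = 0 := Iff.rfl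

theorem isARIso_of_bounds {X Y : PS C} {u : X ⟶ Y} {r s : ℕ} (h : KerBound u r)
    (h' : CokerBound u s) : IsARIso u :=
  ⟨⟨r, (isARNull_kernel_iff u r).2 h⟩, ⟨s, (isARNull_cokernel_iff u s).2 h'⟩⟩

theorem QInv.isARIso {X Y : PS C} {u : X ⟶ Y} {r : ℕ} (q : QInv u r) : IsARIso u :=
  isARIso_of_bounds q.kerBound q.cokerBound

theorem exists_bounds {X Y : PS C} {u : X ⟶ Y} (h : IsARIso u) :
    ∃ r, KerBound u r ∧ CokerBound u r := by
  obtain ⟨⟨r, hr⟩, ⟨s, hs⟩⟩ := h
  exact ⟨max r s, ((isARNull_kernel_iff u r).1 hr).mono (le_max_left _ _),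
    ((isARNull_cokernel_iff u s).1 hs).mono (le_max_right _ _)⟩

theorem exists_qinv_of_bounds {X Y : PS C} {u : X ⟶ Y} {r s : ℕ} (hk : KerBound u r)
    (hc : CokerBound u s) : ∃ t, Nonempty (QInv u t) := by
  refine ⟨r + s, ?_⟩
  let I : ℕ → C := fun m => imageSubobject (u.app (op m))
  let e : ∀ m, X.obj (op m) ⟶ I m := fun m => factorThruImageSubobject _
  let i : ∀ m, I m ⟶ Y.obj (op m) := fun m => (imageSubobject (u.app (op m))).arrow
  have hei : ∀ m, e m ≫ i m = u.app (op m) := fun m => imageSubobject_arrow_comp _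
  have hlift : ∀ n, ∃ l : Y.obj (op (n + (r + s))) ⟶ I (n + r),
      l ≫ i (n + r) = tr Y (Nat.add_le_add_left (Nat.le_add_right r s) n) := by
    intro n
    refine ⟨Subobject.factorThru _ _ ?_, Subobject.factorThru_arrow _ _ ?_⟩
    all_goals
      have h1 : (imageSubobject (u.app (op (n + r)))).Factors (sm Y s (n + r)) := by
        refine (mem_iff_comp_cokernel _ _).2 (hc _ _ ?_)
        exact (mem_iff_comp_cokernel _ _).1 (by simpa using mem_image_self (u.app (op (n + r))) (𝟙 _))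
      have := mem_comp (tr Y (le_of_eq (Nat.add_assoc n r s))) h1
      rwa [sm, tr_comp] at this
  choose l hl using hlift
  have hker : ∀ n, kernel.ι (e (n + r)) ≫ sm X r n = 0 := by
    intro n
    apply hk
    rw [← hei, ← Category.assoc, kernel.condition, zero_comp]
  have hepi : ∀ m, Epi (e m) := fun m => inferInstanceAs (Epi (factorThruImageSubobject _))
  let w : ∀ n, I (n + r) ⟶ X.obj (op n) := fun n =>
    have := hepi (n + r); Abelian.epiDesc (e (n + r)) _ (hker n)
  have hw : ∀ n, e (n + r) ≫ w n = sm X r n := fun n => Abelian.comp_epiDesc _ _ _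
  have hwu : ∀ n, w n ≫ u.app (op n) = i (n + r) ≫ sm Y r n := by
    intro n
    have := hepi (n + r)
    rw [← cancel_epi (e (n + r)), ← Category.assoc, hw, ← Category.assoc, hei, sm, tr_nat]
  have hle : ∀ n, e (n + (r + s)) ≫ i _ ≫
      tr Y (Nat.add_le_add_left (Nat.le_add_right r s) n) =
      tr X (Nat.add_le_add_left (Nat.le_add_right r s) n) ≫ e (n + r) ≫ i (n + r) := by
    intro n
    rw [← Category.assoc, hei, hei, tr_nat]
  have huv : ∀ n, u.app (op (n + (r + s))) ≫ l n ≫ w n = sm X (r + s) n := by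
    intro n
    have h2 : u.app (op (n + (r + s))) ≫ l n =
        tr X (Nat.add_le_add_left (Nat.le_add_right r s) n) ≫ e (n + r) := by
      have : Mono (i (n + r)) := inferInstanceAs (Mono (Subobject.arrow _))
      rw [← cancel_mono (i (n + r)), Category.assoc, hl, Category.assoc, ← hle, ← Category.assoc,
        hei]
    rw [← Category.assoc, h2, Category.assoc, hw, sm, tr_comp]
  refine ⟨⟨fun n => l n ≫ w n, ?_, fun n => ?_, huv⟩⟩
  · intro b a hba
    have hfac : (imageSubobject (u.app (op (b + r)))).Factors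
        (i (a + r) ≫ tr Y (Nat.add_le_add_right hba r)) := by
      have := hepi (a + r)
      refine mem_of_epi_comp _ (e (a + r)) _ ?_
      rw [← Category.assoc, hei, ← tr_nat]
      exact mem_image_self _ _
    obtain ⟨z, hz⟩ : ∃ z : I (a + r) ⟶ I (b + r),
        z ≫ i (b + r) = i (a + r) ≫ tr Y (Nat.add_le_add_right hba r) :=
      ⟨_, Subobject.factorThru_arrow _ _ hfac⟩
    have hzw : z ≫ w b = w a ≫ tr X hba := by
      have := hepi (a + r)
      have : Mono (i (b + r)) := inferInstanceAs (Mono (Subobject.arrow _))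
      have hez : e (a + r) ≫ z = tr X (Nat.add_le_add_right hba r) ≫ e (b + r) := by
        rw [← cancel_mono (i (b + r)), Category.assoc, hz, Category.assoc, hei, ← Category.assoc,
          hei, tr_nat]
      rw [← cancel_epi (e (a + r)), ← Category.assoc, hez, Category.assoc, hw, ← Category.assoc,
        hw, sm, sm, tr_comp, tr_comp]
    have hlz : tr Y (Nat.add_le_add_right hba (r + s)) ≫ l b = l a ≫ z := by
      have : Mono (i (b + r)) := inferInstanceAs (Mono (Subobject.arrow _))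
      rw [← cancel_mono (i (b + r)), Category.assoc, hl, Category.assoc, hz, ← Category.assoc, hl,
        tr_comp, tr_comp]
    rw [← Category.assoc, hlz, Category.assoc, hzw, Category.assoc]
  · show (l n ≫ w n) ≫ u.app (op n) = _
    rw [Category.assoc, hwu, ← Category.assoc, hl, sm, tr_comp]

theorem exists_qinv {X Y : PS C} {u : X ⟶ Y} (h : IsARIso u) : ∃ t, Nonempty (QInv u t) := by
  obtain ⟨r, hk, hc⟩ := exists_bounds h
  exact exists_qinv_of_bounds hk hc

theorem isARIso_iff_qinv {X Y : PS C} (u : X ⟶ Y) : IsARIso u ↔ ∃ t, Nonempty (QInv u t) :=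
  ⟨exists_qinv, fun ⟨_, ⟨q⟩⟩ => q.isARIso⟩

theorem isARIso_comp {X Y Z : PS C} {u : X ⟶ Y} {u' : Y ⟶ Z} (h : IsARIso u) (h' : IsARIso u') :
    IsARIso (u ≫ u') := by
  obtain ⟨r, hk, hc⟩ := exists_bounds h
  obtain ⟨s, hk', hc'⟩ := exists_bounds h'
  refine isARIso_of_bounds (r := r + s) (s := s + r) ?_ ?_
  · intro n T x hx
    have h1 := hk n (x ≫ tr X (Nat.add_le_add_left (Nat.le_add_right r s) n)) ?_
    · rwa [Category.assoc, sm, tr_comp] at h1
    · rw [Category.assoc, tr_nat, ← Category.assoc]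
      rw [NatTrans.comp_app] at hx
      have h2 := hk' (n + r) (x ≫ u.app (op (n + (r + s))) ≫ tr Y (le_of_eq (Nat.add_assoc n r s))) ?_
      · rw [Category.assoc, Category.assoc, sm, tr_comp] at h2
        rwa [Category.assoc]
      · rw [Category.assoc, Category.assoc, tr_nat, ← Category.assoc (u.app _), ← Category.assoc x,
          hx, zero_comp]
  · intro n T ψ hψ
    rw [NatTrans.comp_app, Category.assoc] at hψ
    have h1 := hc n _ hψ
    rw [sm, tr_nat_assoc] at h1
    have h2 := hc' (n + r) _ h1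
    rw [sm, tr_comp_assoc] at h2
    have h3 := tr Z (le_of_eq (show n + r + s = n + (s + r) by omega)) ≫= h2
    rwa [tr_comp_assoc, comp_zero] at h3

theorem isARIso_of_isIso {X Y : PS C} (u : X ⟶ Y) [IsIso u] : IsARIso u := by
  refine isARIso_of_bounds (r := 0) (s := 0) (fun n T x hx => ?_) (fun n T ψ hψ => ?_)
  · rw [show x = 0 from (cancel_mono (u.app (op (n + 0)))).1 (hx.trans zero_comp.symm), zero_comp]
  · rw [show ψ = 0 from (cancel_epi (u.app (op n))).1 (hψ.trans comp_zero.symm), comp_zero]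

theorem exact_app {S : ShortComplex (PS C)} (hS : S.Exact) (n : ℕ) :
    (S.map ((evaluation ℕᵒᵖ C).obj (op n))).Exact := hS.map _

/-- exactness in the middle, dual form -/
theorem exact_desc {S : ShortComplex (PS C)} (hS : S.ShortExact) (n : ℕ) {Z : C}
    (φ : S.X₂.obj (op n) ⟶ Z) (h : S.f.app (op n) ≫ φ = 0) :
    ∃ χ, S.g.app (op n) ≫ χ = φ := by
  have : Epi S.g := hS.epi_g
  have : Epi (S.map ((evaluation ℕᵒᵖ C).obj (op n))).g := epi_app S.g n
  obtain ⟨χ, hχ⟩ := CokernelCofork.IsColimit.desc' (exact_app hS.exact n).gIsCokernel φ h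
  exact ⟨χ, hχ⟩

/-- exactness in the middle -/
theorem exact_lift {S : ShortComplex (PS C)} (hS : S.ShortExact) (n : ℕ) {T : C}
    (x : T ⟶ S.X₂.obj (op n)) (h : x ≫ S.g.app (op n) = 0) :
    ∃ y, y ≫ S.f.app (op n) = x := by
  have : Mono S.f := hS.mono_f
  have : Mono (S.map ((evaluation ℕᵒᵖ C).obj (op n))).f := mono_app S.f n
  obtain ⟨χ, hχ⟩ := KernelFork.IsLimit.lift' (exact_app hS.exact n).fIsKernel x h
  exact ⟨χ, hχ⟩

theorem short_f_g {S : ShortComplex (PS C)} (n : ℕ) :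
    S.f.app (op n) ≫ S.g.app (op n) = 0 := by
  rw [← NatTrans.comp_app, S.zero]
  rfl

/-! ### uniform Mittag-Leffler -/

/-- uniform Mittag-Leffler with bound `r`, dual form -/
def MLBound (X : PS C) (r : ℕ) : Prop :=
  ∀ (n s : ℕ), r ≤ s → ∀ ⦃T : C⦄ (ψ : X.obj (op n) ⟶ T),
    sm X s n ≫ ψ = 0 → sm X r n ≫ ψ = 0

theorem mlar_iff (X : PS C) : IsMLAR X ↔ ∃ r, MLBound X r := by
  refine exists_congr fun r => ?_
  show (∀ s, r ≤ s → ∀ n, imageSubobject (sm X s n) = imageSubobject (sm X r n)) ↔ _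
  constructor
  · intro h n s hs T ψ hψ
    exact comp_eq_zero_of_imageSubobject_le (h s hs n).ge hψ
  · intro h s hs n
    rw [imageSubobject_eq_iff]
    intro T ψ
    refine ⟨h n s hs ψ, fun hψ => ?_⟩
    rw [← tr_from_le X hs, Category.assoc, hψ, comp_zero]

theorem mlar_of_strict {X : PS C} (h : IsStrict X) : IsMLAR X :=
  (mlar_iff X).2 ⟨0, fun n s _ T ψ hψ => by
    rw [show ψ = 0 from strict_cancel_zero h _ hψ, comp_zero]⟩

theorem mlBound_of_qinv {X Y : PS C} {u : X ⟶ Y} {t r : ℕ} (q : QInv u t) (hX : MLBound X r) :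
    MLBound Y (r + t) := by
  intro n s hs T ψ hψ
  have h1 : sm X s n ≫ u.app (op n) ≫ ψ = 0 := by
    rw [sm, tr_nat_assoc]
    exact (congrArg _ hψ).trans comp_zero
  have h2 := q.v (n + r) ≫= hX n s (by omega) _ h1
  rw [sm, ← Category.assoc, ← q.v_tr, Category.assoc, ← Category.assoc (q.v n),
    q.vu, comp_zero, sm, tr_comp_assoc] at h2
  have h3 := tr Y (le_of_eq (show n + r + t = n + (r + t) by omega)) ≫= h2
  rwa [tr_comp_assoc, comp_zero] at h3

theorem mlBound_of_qinv' {X Y : PS C} {u : X ⟶ Y} {t r : ℕ} (q : QInv u t) (hY : MLBound Y r) :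
    MLBound X (r + t) := by
  intro n s hs T ψ hψ
  have h1 : q.v (n + s) ≫ sm X s n ≫ ψ = 0 := by rw [hψ, comp_zero]
  rw [sm, ← Category.assoc, ← q.v_tr, Category.assoc] at h1
  have h1' := tr Y (le_of_eq (show n + s + t = (n + t) + s by omega)) ≫= h1
  rw [tr_comp_assoc, comp_zero] at h1'
  have h2 := u.app (op ((n + t) + r)) ≫= hY (n + t) s (by omega) _ h1'
  rw [sm, ← tr_nat_assoc, ← Category.assoc (u.app (op (n + t))), q.uv, comp_zero, sm,
    tr_comp_assoc] at h2
  have h3 := tr X (le_of_eq (show n + t + r = n + (r + t) by omega)) ≫= h2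
  rwa [tr_comp_assoc, comp_zero] at h3

theorem mlar_of_iso_src {X Y : PS C} {u : X ⟶ Y} (h : IsARIso u) (hX : IsMLAR X) : IsMLAR Y := by
  obtain ⟨t, ⟨q⟩⟩ := exists_qinv h
  obtain ⟨r, hr⟩ := (mlar_iff X).1 hX
  exact (mlar_iff Y).2 ⟨_, mlBound_of_qinv q hr⟩

theorem mlar_of_iso_tgt {X Y : PS C} {u : X ⟶ Y} (h : IsARIso u) (hY : IsMLAR Y) : IsMLAR X := by
  obtain ⟨t, ⟨q⟩⟩ := exists_qinv h
  obtain ⟨r, hr⟩ := (mlar_iff Y).1 hY
  exact (mlar_iff X).2 ⟨_, mlBound_of_qinv' q hr⟩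

/-- the system of images of `X (n+r) ⟶ X n` -/
noncomputable def imgSys (X : PS C) (r : ℕ) : PS C := image (shiftNat X r)

/-- its inclusion -/
noncomputable def imgIncl (X : PS C) (r : ℕ) : imgSys X r ⟶ X := image.ι _

/-- the projection -/
noncomputable def imgProj (X : PS C) (r : ℕ) : (shift C r).obj X ⟶ imgSys X r := factorThruImage _

/-- component of the projection, typed without `shift` -/
noncomputable def imgP (X : PS C) (r n : ℕ) : X.obj (op (n + r)) ⟶ (imgSys X r).obj (op n) :=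
  (imgProj X r).app (op n)

instance (X : PS C) (r : ℕ) : Mono (imgIncl X r) := inferInstanceAs (Mono (image.ι _))

instance (X : PS C) (r : ℕ) : Epi (imgProj X r) := inferInstanceAs (Epi (factorThruImage _))

instance (X : PS C) (r n : ℕ) : Epi (imgP X r n) := epi_app (imgProj X r) n

theorem imgProj_incl (X : PS C) (r n : ℕ) :
    imgP X r n ≫ (imgIncl X r).app (op n) = sm X r n := by
  exact congrArg (fun f => NatTrans.app f (op n)) (image.fac (shiftNat X r))

theorem imgIncl_zero_iff (X : PS C) (r n : ℕ) {T : C} (ψ : X.obj (op n) ⟶ T) :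
    (imgIncl X r).app (op n) ≫ ψ = 0 ↔ sm X r n ≫ ψ = 0 := by
  rw [← imgProj_incl, Category.assoc, ← cancel_epi (imgP X r n), comp_zero]

theorem imgSys_strict {X : PS C} {r : ℕ} (h : MLBound X r) : IsStrict (imgSys X r) := by
  intro n m hnm
  obtain ⟨d, rfl⟩ := Nat.exists_eq_add_of_le hnm
  refine epi_of_cancel fun Z χ hχ => ?_
  obtain ⟨P, j, ψ, hj, hψ⟩ := extend_mono ((imgIncl X r).app (op n)) χ
  have h1 : (imgIncl X r).app (op (n + d)) ≫ tr X hnm ≫ ψ = 0 := by
    rw [← tr_nat_assoc, hψ, ← Category.assoc, hχ, zero_comp]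
  rw [imgIncl_zero_iff, sm, tr_comp_assoc] at h1
  have h2 : sm X (d + r) n ≫ ψ = 0 := by
    have := tr X (le_of_eq (show n + d + r = n + (d + r) by omega)) ≫= h1
    rwa [tr_comp_assoc, comp_zero] at this
  have h3 := (imgIncl_zero_iff X r n ψ).2 (h n _ (Nat.le_add_left r d) ψ h2)
  rw [hψ] at h3
  exact (cancel_mono j).1 (h3.trans zero_comp.symm)

theorem imgIncl_bounds (X : PS C) (r : ℕ) :
    KerBound (imgIncl X r) 0 ∧ CokerBound (imgIncl X r) r := by
  refine ⟨fun n T x hx => ?_, fun n T ψ hψ => (imgIncl_zero_iff X r n ψ).1 hψ⟩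
  rw [show x = 0 from (cancel_mono ((imgIncl X r).app (op (n + 0)))).1 (hx.trans zero_comp.symm),
    zero_comp]

theorem exists_strict_sub {X : PS C} (h : IsMLAR X) :
    ∃ (W : PS C) (u : W ⟶ X), Mono u ∧ IsStrict W ∧ IsARIso u := by
  obtain ⟨r, hr⟩ := (mlar_iff X).1 h
  exact ⟨_, imgIncl X r, inferInstance, imgSys_strict hr,
    isARIso_of_bounds (imgIncl_bounds X r).1 (imgIncl_bounds X r).2⟩

theorem epi_of_coker_strict {X Y : PS C} {u : X ⟶ Y} (h : IsARIso u) (hY : IsStrict Y) (n : ℕ) :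
    Epi (u.app (op n)) := by
  obtain ⟨r, -, hc⟩ := exists_bounds h
  exact epi_of_cancel fun Z ψ hψ => strict_cancel_zero hY _ (hc n ψ hψ)

end Groth.Agent.ARLib
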