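import Groth.Agent.ARLib.Sub
import Mathlib.Order.Preorder.Chain

/-!
A Hilbert basis theorem for graded objects of an abelian category with commuting degree one
endomorphisms: increasing sequences of stable families of subobjects stabilize.
-/

set_option linter.unusedSectionVars false

universe v u

open CategoryTheory CategoryTheory.Limits

namespace Groth.Agent.ARLib

variable {C : Type u} [Category.{v} C] [Abelian C]

theorem acc_below {X : C} (T : Subobject X) [IsNoetherianObject (T : C)] (f : ℕ →o Subobject X)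
    (hf : ∀ i, f i ≤ T) : ∃ n, ∀ m, n ≤ m → f n = f m := by
  obtain ⟨n, hn⟩ := monotone_chain_condition_of_isNoetherianObject
    (⟨fun i => pre T.arrow (f i), fun a b h => pre_mono _ (f.2 h)⟩ : ℕ →o Subobject (T : C))
  refine ⟨n, fun m hm => le_antisymm (f.2 hm) (sub_le_of_mem fun A x hx => ?_)⟩
  obtain ⟨y, rfl⟩ : ∃ y, y ≫ T.arrow = x :=
    ⟨_, Subobject.factorThru_arrow _ _ (mem_mono (hf m) hx)⟩
  exact (mem_pre _ _ _).1 (mem_mono (hn m hm).ge ((mem_pre _ _ _).2 hx))

/-- the data of a graded object generated in degree `0` by commuting degree one maps -/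
structure GrData (C : Type u) [Category.{v} C] [Abelian C] (k : ℕ) where
  X : ℕ → C
  τ : Fin k → ∀ q, X q ⟶ X (q + 1)
  comm : ∀ l m q, τ l q ≫ τ m (q + 1) = τ m q ≫ τ l (q + 1)
  T : ∀ q, Subobject (X q)
  map_T : ∀ l q ⦃A : C⦄ (x : A ⟶ X q), (T q).Factors x → (T (q + 1)).Factors (x ≫ τ l q)
  gen : ∀ q (S : Subobject (X (q + 1))), (∀ l, img (τ l q) (T q) ≤ S) → T (q + 1) ≤ S

namespace GrData

variable {k : ℕ} (D : GrData C k)

/-- a family of subobjects stable by the operators, containing the images of those of index `≥ k₀` -/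
def Stable (k₀ : ℕ) (M : ∀ q, Subobject (D.X q)) : Prop :=
  (∀ q, M q ≤ D.T q) ∧
  (∀ l q ⦃A : C⦄ (x : A ⟶ D.X q), (M q).Factors x → (M (q + 1)).Factors (x ≫ D.τ l q)) ∧
  (∀ l : Fin k, k₀ ≤ (l : ℕ) → ∀ q, img (D.τ l q) (D.T q) ≤ M (q + 1))

/-- colon by one operator -/
noncomputable def colon (l : Fin k) (M : ∀ q, Subobject (D.X q)) : ∀ q, Subobject (D.X q) :=
  fun q => pre (D.τ l q) (M (q + 1)) ⊓ D.T q

theorem mem_colon (l : Fin k) (M : ∀ q, Subobject (D.X q)) (q : ℕ) {A : C} (x : A ⟶ D.X q) :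
    (D.colon l M q).Factors x ↔ (M (q + 1)).Factors (x ≫ D.τ l q) ∧ (D.T q).Factors x := by
  rw [colon, mem_inf, mem_pre]

/-- stable families (no image condition) -/
def Closed (M : ∀ q, Subobject (D.X q)) : Prop :=
  (∀ q, M q ≤ D.T q) ∧
  ∀ l q ⦃A : C⦄ (x : A ⟶ D.X q), (M q).Factors x → (M (q + 1)).Factors (x ≫ D.τ l q)

theorem closed_colon (l : Fin k) {M : ∀ q, Subobject (D.X q)} (h : D.Closed M) :
    D.Closed (D.colon l M) := by
  refine ⟨fun q => inf_le_right, fun m q A x hx => ?_⟩
  rw [mem_colon] at hx ⊢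
  refine ⟨?_, D.map_T m q x hx.2⟩
  rw [Category.assoc, D.comm, ← Category.assoc]
  exact h.2 m (q + 1) _ hx.1

theorem le_colon (l : Fin k) {M : ∀ q, Subobject (D.X q)} (h : D.Closed M) : M ≤ D.colon l M :=
  fun q => sub_le_of_mem fun A x hx =>
    (D.mem_colon l M q x).2 ⟨h.2 l q x hx, mem_mono (h.1 q) hx⟩

theorem colon_mono (l : Fin k) : Monotone (D.colon l) := fun _ _ h q =>
  inf_le_inf_right _ (pre_mono _ (h (q + 1)))

theorem closed_colon_iterate (l : Fin k) {M : ∀ q, Subobject (D.X q)} (h : D.Closed M) (j : ℕ) :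
    D.Closed ((D.colon l)^[j] M) := by
  induction j with
  | zero => exact h
  | succ j ih =>
    rw [Function.iterate_succ_apply']
    exact D.closed_colon l ih

/-- the image of one operator -/
noncomputable def imgFam (l : Fin k) : ∀ q, Subobject (D.X q)
  | 0 => ⊥
  | q + 1 => img (D.τ l q) (D.T q)

theorem stable_chain (h0 : IsNoetherianObject (D.T 0 : C)) : ∀ (k₀ : ℕ),
    ∀ M : ℕ →o (∀ q, Subobject (D.X q)), (∀ i, D.Stable k₀ (M i)) →
      ∃ n, ∀ m, n ≤ m → M n = M m := by
  intro k₀
  induction k₀ with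
  | zero =>
    intro M hM
    have := h0
    obtain ⟨n, hn⟩ := acc_below (D.T 0) ⟨fun i => M i 0, fun a b h => M.2 h 0⟩ (fun i => (hM i).1 0)
    refine ⟨n, fun m hm => ?_⟩
    funext q
    cases q with
    | zero => exact hn m hm
    | succ q =>
      exact le_antisymm (M.2 hm _)
        (le_trans ((hM m).1 _) (D.gen q _ fun l => (hM n).2.2 l (Nat.zero_le _) q))
  | succ k₀ ih =>
    intro M hM
    by_cases hk : k₀ < k
    swap
    · exact ih M fun i => ⟨(hM i).1, (hM i).2.1,
        fun l hl => absurd (lt_of_lt_of_le l.2 (not_lt.1 hk)) (not_lt.2 hl)⟩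
    let l₀ : Fin k := ⟨k₀, hk⟩
    have hc : ∀ i, D.Closed (M i) := fun i => ⟨(hM i).1, (hM i).2.1⟩
    let N : ℕ → ℕ → ∀ q, Subobject (D.X q) := fun i j q =>
      (D.colon l₀)^[j] (M i) q ⊔ D.imgFam l₀ q
    have hN : ∀ i j, D.Stable k₀ (N i j) := by
      intro i j
      have hcl := D.closed_colon_iterate l₀ (hc i) j
      refine ⟨fun q => sup_le (hcl.1 q) ?_, fun m q A x hx => ?_, fun m hm q => ?_⟩
      · cases q with
        | zero => exact bot_le
        | succ q => exact (img_le_iff _ _ _).2 fun A x hx => D.map_T l₀ q x hx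
      · obtain ⟨A', e, he, s, s', hs, hs', heq⟩ := (mem_sup _ _ _).1 hx
        refine mem_of_epi_comp _ e _ ?_
        rw [← Category.assoc, heq, Preadditive.add_comp]
        refine mem_add (mem_mono le_sup_left (hcl.2 m q s hs)) (mem_mono le_sup_right ?_)
        cases q with
        | zero => rw [(mem_bot s').1 hs', zero_comp]; exact mem_zero _
        | succ q =>
          obtain ⟨A'', e', he', y, hy, hye⟩ := (mem_img _ _ _).1 hs'
          refine mem_of_epi_comp _ e' _ ?_
          rw [← Category.assoc, hye, Category.assoc, D.comm, ← Category.assoc]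
          exact mem_img_of_mem _ (D.map_T m q y hy)
      · rcases Nat.lt_or_ge k₀ (m : ℕ) with h | h
        · refine le_trans ((hM i).2.2 m h q) (le_trans ?_ le_sup_left)
          clear hcl
          induction j with
          | zero => exact le_rfl
          | succ j ihj =>
            rw [Function.iterate_succ_apply']
            exact le_trans ihj (D.le_colon l₀ (D.closed_colon_iterate l₀ (hc i) j) (q + 1))
        · obtain rfl : m = l₀ := Fin.ext (le_antisymm h hm)
          exact le_sup_right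
    let α := {F : ∀ q, Subobject (D.X q) // D.Stable k₀ F}
    obtain ⟨i₀, hi₀⟩ := double_chain (α := α)
      (fun f => by
        obtain ⟨n, hn⟩ := ih ⟨fun i => (f i).1, fun a b h => f.2 h⟩ fun i => (f i).2
        exact ⟨n, fun m hm => Subtype.ext (hn m hm)⟩)
      (fun i j => ⟨N i j, hN i j⟩)
      (fun j a b h q => sup_le_sup_right ((D.colon_mono l₀).iterate j (M.2 h) q) _)
      (fun i => monotone_nat_of_le_succ fun j q => sup_le_sup_right (by
        rw [Function.iterate_succ_apply']
        exact D.le_colon l₀ (D.closed_colon_iterate l₀ (hc i) j) q) _)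
    refine ⟨i₀, fun i hi => le_antisymm (M.2 hi) ?_⟩
    suffices ∀ d j, (D.colon l₀)^[j] (M i) d ≤ (D.colon l₀)^[j] (M i₀) d from fun q => this q 0
    intro d
    induction d with
    | zero =>
      intro j
      have h := congrFun (congrArg Subtype.val (hi₀ i hi j)) 0
      exact le_trans le_sup_left (h.le.trans (sup_le le_rfl bot_le))
    | succ d ihd =>
      intro j
      have h := congrFun (congrArg Subtype.val (hi₀ i hi j)) (d + 1)
      refine sub_le_of_mem fun A x hx => ?_
      obtain ⟨A', e, he, s, s', hs, hs', heq⟩ :=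
        (mem_sup _ _ _).1 (mem_mono h.le (mem_mono le_sup_left hx))
      obtain ⟨A'', e', he', y, hy, hye⟩ := (mem_img _ _ _).1 hs'
      have hmono : (D.colon l₀)^[j] (M i₀) (d + 1) ≤ (D.colon l₀)^[j] (M i) (d + 1) :=
        (D.colon_mono l₀).iterate j (M.2 hi) (d + 1)
      have key : e' ≫ e ≫ x = e' ≫ s + y ≫ D.τ l₀ d := by rw [heq, Preadditive.comp_add, hye]
      have hy' : ((D.colon l₀)^[j + 1] (M i) d).Factors y := by
        rw [Function.iterate_succ_apply', mem_colon]
        refine ⟨?_, hy⟩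
        rw [show y ≫ D.τ l₀ d = e' ≫ e ≫ x - e' ≫ s by rw [key, add_sub_cancel_left]]
        exact mem_sub (mem_comp _ (mem_comp _ hx)) (mem_comp _ (mem_mono hmono hs))
      have hy'' := mem_mono (ihd (j + 1)) hy'
      rw [Function.iterate_succ_apply', mem_colon] at hy''
      refine mem_of_epi_comp _ (e' ≫ e) x ?_
      rw [Category.assoc, key]
      exact mem_add (mem_comp _ hs) hy''.1

theorem closed_chain (h0 : IsNoetherianObject (D.T 0 : C))
    (M : ℕ →o (∀ q, Subobject (D.X q))) (hM : ∀ i, D.Closed (M i)) :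
    ∃ n, ∀ m, n ≤ m → M n = M m :=
  D.stable_chain h0 k M fun i => ⟨(hM i).1, (hM i).2, fun l hl => absurd l.2 (not_lt.2 hl)⟩

end GrData

end Groth.Agent.ARLib
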