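import Groth.Agent.ARLib.Seq
import Groth.Agent.ARLib.Hilbert

/-!
`J`-adic systems with Noetherian components over a Noetherian ring: chain condition on graded
submodules and the resulting closure properties.
-/

set_option linter.unusedSectionVars false

universe w v u

open CategoryTheory CategoryTheory.Limits Opposite ARSys

namespace Groth.Agent.ARLib

variable {C : Type u} [Category.{v} C] [Abelian C] {A : Type w} [CommRing A] [Linear A C]
  {J : Ideal A}

theorem mem_Fsub_iff (X : PS C) (q n : ℕ) {T : C} (x : T ⟶ X.obj (op n)) :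
    (Fsub X q n).Factors x ↔ ∀ (k : ℕ) (h : k ≤ n), k < q → x ≫ tr X h = 0 := by
  cases q with
  | zero => simp [Fsub, mem_top]
  | succ q =>
    rw [Fsub]
    split_ifs with h
    · rw [mem_kernel]
      refine ⟨fun hx k hk hkq => ?_, fun hx => hx q h (Nat.lt_succ_self q)⟩
      rw [← tr_comp X (Nat.le_of_lt_succ hkq) h, ← Category.assoc, hx, zero_comp]
    · rw [mem_bot]
      refine ⟨fun hx k hk _ => by rw [hx, zero_comp], fun hx => ?_⟩
      have := hx n le_rfl (by omega)
      rwa [tr_refl, Category.comp_id] at this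

/-- adaptedness, in elementwise form -/
theorem adapted_iff (X : PS C) :
    IsAdapted J X ↔ ∀ (n p : ℕ), p ≤ n + 1 → ∀ a ∈ J ^ p, ∀ ⦃T : C⦄ (x : T ⟶ X.obj (op n)),
      (∀ (k : ℕ) (h : k ≤ n), k < n + 1 - p → x ≫ tr X h = 0) → a • x = 0 := by
  constructor
  · intro h n p hp a ha T x hx
    have hx' := (mem_Fsub_iff X (n + 1 - p) n x).2 hx
    have e := Subobject.factorThru_arrow _ _ hx'
    have := (Fsub X (n + 1 - p) n).factorThru x hx' ≫= h n p hp a ha
    rw [← Category.assoc, e, comp_zero, Linear.comp_smul, Category.comp_id] at this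
    exact this
  · intro h n p hp a ha
    rw [Linear.comp_smul, Category.comp_id]
    exact h n p hp a ha _ ((mem_Fsub_iff _ _ _ _).1 (Subobject.factors_self _))

theorem adapted_shift {X : PS C} (h : IsAdapted J X) {p q n : ℕ} {a : A} (ha : a ∈ J ^ p) {T : C}
    (x : T ⟶ X.obj (op n)) (hx : (Fsub X q n).Factors x) :
    (Fsub X (p + q) n).Factors (a • x) := by
  rw [mem_Fsub_iff] at hx ⊢
  intro k hk hkpq
  rw [Linear.smul_comp]
  rcases Nat.lt_or_ge k q with hq | hq
  · rw [hx k hk hq, smul_zero]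
  · refine (adapted_iff X).1 h k (k + 1 - q) (by omega) a (pow_anti J (by omega) ha) _ ?_
    intro k' hk' hlt
    rw [Category.assoc, tr_comp, hx k' (hk'.trans hk) (by omega)]

theorem adapted_of_mono {X Y : PS C} (i : X ⟶ Y) [Mono i] (h : IsAdapted J Y) :
    IsAdapted J X := by
  rw [adapted_iff] at h ⊢
  intro n p hp a ha T x hx
  have := mono_app i n
  rw [← cancel_mono (i.app (op n)), zero_comp, Linear.smul_comp]
  refine h n p hp a ha _ fun k hk hlt => ?_
  rw [Category.assoc, ← tr_nat, ← Category.assoc, hx k hk hlt, zero_comp]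

theorem adapted_of_adic {X : PS C} (h : IsAdic J X) : IsAdapted J X := by
  rw [adapted_iff]
  intro n p hp a ha T x hx
  rcases Nat.eq_or_lt_of_le hp with hp' | hp'
  · rw [hp'] at ha
    exact killed_smul (h.1 n) x a ha
  · obtain ⟨k, hk⟩ : ∃ k, n - p = k := ⟨_, rfl⟩
    have hkn : k ≤ n := by omega
    have hφ : HomKilledBy (J ^ (k + 1)) (a • 𝟙 (X.obj (op n))) := fun b hb => by
      rw [smul_smul]
      refine h.1 n (b * a) (pow_anti J (show n + 1 ≤ (k + 1) + p by omega) ?_)
      rw [pow_add]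
      exact Ideal.mul_mem_mul hb ha
    have := quot_vanish (h.2 k n hkn) hφ (hx k hkn (by omega))
    simpa using this

theorem mem_of_isGrSub {X : PS C} {M : (q : ℕ) → Subobject (X.obj (op q))} (hM : IsGrSub J X M)
    {q m : ℕ} (h : q ≤ m) {a : A} (ha : a ∈ J ^ (m - q)) {T : C} (x : T ⟶ X.obj (op m))
    (hx : (M q).Factors (x ≫ tr X h)) : (M m).Factors (a • x) := by
  obtain ⟨p, rfl⟩ := Nat.exists_eq_add_of_le' h
  rw [Nat.add_sub_cancel] at ha
  refine mem_mono (hM.2 p q a ha) ?_
  obtain ⟨y, hy⟩ : ∃ y, y ≫ ((Subobject.pullback (tr X (Nat.le_add_left q p))).obj (M q)).arrow =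
      x := ⟨_, Subobject.factorThru_arrow _ _ ((mem_pre _ _ _).2 hx)⟩
  have h2 : x ≫ (a • 𝟙 (X.obj (op (p + q)))) = a • x := by simp
  rw [← h2, ← hy, Category.assoc]
  exact mem_image_self _ y

theorem isGrSub_mk {X : PS C} {M : (q : ℕ) → Subobject (X.obj (op q))}
    (hA : ∀ q, M q ≤ Fsub X q q)
    (h : ∀ (q m : ℕ) (h : q ≤ m), ∀ a ∈ J ^ (m - q), ∀ ⦃T : C⦄ (x : T ⟶ X.obj (op m)),
      (M q).Factors (x ≫ tr X h) → (M m).Factors (a • x)) : IsGrSub J X M := by
  refine ⟨hA, fun p q a ha => ?_⟩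
  refine sub_le_of_mem fun T y hy => ?_
  obtain ⟨T', e, he, z, hz⟩ := (mem_image _ _).1 hy
  refine mem_of_epi_comp _ e y ?_
  rw [hz, ← Category.assoc, Linear.comp_smul, Category.comp_id]
  refine h q (p + q) (Nat.le_add_left q p) a (by rwa [Nat.add_sub_cancel]) _ ?_
  exact (mem_pre _ _ _).1 (Subobject.factors_comp_arrow z)

/-- the degree one maps `X q ⟶ X (q+1)` given by an element of `J` -/
theorem exists_tau {X : PS C} (hX : IsAdic J X) {a : A} (ha : a ∈ J) (q : ℕ) :
    ∃ τ : X.obj (op q) ⟶ X.obj (op (q + 1)),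
      tr X (Nat.le_succ q) ≫ τ = a • 𝟙 (X.obj (op (q + 1))) := by
  refine quot_fac (hX.2 q (q + 1) (Nat.le_succ q)) _ fun b hb => ?_
  rw [smul_smul]
  refine hX.1 (q + 1) _ ?_
  rw [pow_succ J (q + 1)]
  exact Ideal.mul_mem_mul hb ha

theorem Fsub_self_killed {X : PS C} (hX : IsAdic J X) {q : ℕ} {a : A} (ha : a ∈ J ^ q) :
    (Fsub X q q).Factors (a • 𝟙 (X.obj (op q))) := by
  rw [mem_Fsub_iff]
  intro k hk hkq
  rw [Linear.smul_comp, Category.id_comp]
  exact killed_smul (hX.1 k) _ a (pow_anti J (by omega) ha)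

theorem smul_eq_zero_of_adapted {X : PS C} (hA : IsAdapted J X) {q m : ℕ} (hqm : q ≤ m) {a : A}
    (ha : a ∈ J ^ (m - q)) {T : C} (x : T ⟶ X.obj (op m)) (hx : x ≫ tr X hqm = 0) : a • x = 0 := by
  refine (adapted_iff X).1 hA m (m - q) (by omega) a ha x fun k hk hlt => ?_
  rw [← tr_comp X (show k ≤ q by omega) hqm, ← Category.assoc, hx, zero_comp]

/-- the strict graded object of an adic system as graded data -/
theorem exists_gr {X : PS C} (hX : IsAdic J X) (hJ : J.FG) :
    ∃ (k : ℕ) (g : Fin k → A) (τ : Fin k → ∀ q, X.obj (op q) ⟶ X.obj (op (q + 1))),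
      (∀ l, g l ∈ J) ∧
      (∀ l q, tr X (Nat.le_succ q) ≫ τ l q = g l • 𝟙 (X.obj (op (q + 1)))) ∧
      (∀ l m q, τ l q ≫ τ m (q + 1) = τ m q ≫ τ l (q + 1)) ∧
      (∀ l q ⦃T : C⦄ (x : T ⟶ X.obj (op q)), (Fsub X q q).Factors x →
        (Fsub X (q + 1) (q + 1)).Factors (x ≫ τ l q)) ∧
      (∀ q (S : Subobject (X.obj (op (q + 1)))), (∀ l, img (τ l q) (Fsub X q q) ≤ S) →
        Fsub X (q + 1) (q + 1) ≤ S) := by
  obtain ⟨k, g, hg⟩ := Submodule.fg_iff_exists_fin_generating_family.1 hJ
  have hmem : ∀ l, g l ∈ J := fun l => hg ▸ Submodule.subset_span ⟨l, rfl⟩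
  choose τ hτ using fun l q => exists_tau hX (hmem l) q
  refine ⟨k, g, τ, hmem, hτ, fun l m q => ?_, fun l q T x hx => ?_, fun q S hS => ?_⟩
  · have := adic_strict hX q (q + 1) (Nat.le_succ q)
    have := adic_strict hX (q + 1) (q + 1 + 1) (Nat.le_succ _)
    rw [← cancel_epi (tr X (Nat.le_succ (q + 1)) ≫ tr X (Nat.le_succ q))]
    simp only [Category.assoc, reassoc_of% (hτ l q), reassoc_of% (hτ m q), Linear.smul_comp,
      Category.id_comp, Linear.comp_smul, hτ, smul_smul]
    rw [mul_comm]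
  · have := adic_strict hX q (q + 1) (Nat.le_succ q)
    obtain ⟨T', e, he, y, hy⟩ := surjective_up_to_refinements_of_epi (tr X (Nat.le_succ q)) x
    refine mem_of_epi_comp _ e _ ?_
    rw [← Category.assoc, hy, Category.assoc, hτ, Linear.comp_smul, Category.comp_id]
    have hq1 : (Fsub X q (q + 1)).Factors y := by
      rw [mem_Fsub_iff]
      intro j hj hjq
      have h := (mem_Fsub_iff X q q _).1 (hy ▸ mem_comp e hx) j hjq.le hjq
      rwa [Category.assoc, tr_comp] at h
    have h := adapted_shift (adapted_of_adic hX) (p := 1) (by simpa using hmem l) y hq1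
    rwa [Nat.add_comm 1 q] at h
  · refine sub_le_of_mem fun T x hx => ?_
    have hx0 := (mem_Fsub_iff X (q + 1) (q + 1) x).1 hx q (Nat.le_succ q) (Nat.lt_succ_self q)
    set φ := cokernel.π S.arrow
    have hφ : HomKilledBy (J ^ (q + 1)) φ := by
      rw [pow_succ J q]
      refine hom_killed_mul fun b hb c hc => ?_
      have hgl : ∀ l, (b * g l) • φ = 0 := by
        intro l
        have h1 : S.Factors ((b • 𝟙 (X.obj (op q))) ≫ τ l q) :=
          mem_mono (hS l) (mem_img_of_mem _ (Fsub_self_killed hX hb))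
        rw [mem_iff_comp_cokernel] at h1
        have h2 := tr X (Nat.le_succ q) ≫= h1
        rw [comp_zero, Linear.smul_comp, Category.id_comp, Linear.smul_comp, Linear.comp_smul,
          ← Category.assoc, hτ, Linear.smul_comp, Category.id_comp, smul_smul] at h2
        exact h2
      rw [← hg] at hc
      induction hc using Submodule.span_induction with
      | mem c hc => obtain ⟨l, rfl⟩ := hc; exact hgl l
      | zero => rw [mul_zero, zero_smul]
      | add c c' _ _ h h' => rw [mul_add, add_smul, h, h', add_zero]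
      | smul d c _ h => rw [smul_eq_mul, mul_left_comm, mul_smul, h, smul_zero]
    exact (mem_iff_comp_cokernel _ _).2 (quot_vanish (hX.2 q (q + 1) _) hφ hx0)

theorem Fsub_zero_eq_top (X : PS C) (n : ℕ) : Fsub X 0 n = ⊤ := rfl

/-- components of an adic system inherit properties closed under biproducts, quotients and
extensions -/
theorem prop_components {X : PS C} (hX : IsAdic J X) (hJ : J.FG) (P : C → Prop)
    (hP0 : ∀ W, IsZero W → P W) (hPb : ∀ U V : C, P U → P V → P (U ⊞ V))
    (hPe : ∀ {U V : C} (p : U ⟶ V), Epi p → P U → P V)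
    (hPx : ∀ {U V W : C} (i : U ⟶ V) (p : V ⟶ W) {w : i ≫ p = 0},
      (ShortComplex.mk i p w).Exact → P U → P W → P V)
    (h0 : P (X.obj (op 0))) (n : ℕ) : P (X.obj (op n)) := by
  obtain ⟨k, g, τ, -, hτ, -, hmap, hgen⟩ := exists_gr hX hJ
  have hT : ∀ q, P (Fsub X q q : C) := by
    intro q
    induction q with
    | zero =>
      have : IsIso (Fsub X 0 0).arrow := (Subobject.isIso_arrow_iff_eq_top _).2 rfl
      exact hPe (inv (Fsub X 0 0).arrow) inferInstance h0
    | succ q ih =>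
      let σ : Fin k → ((Fsub X q q : C) ⟶ (Fsub X (q + 1) (q + 1) : C)) := fun l =>
        (Fsub X (q + 1) (q + 1)).factorThru ((Fsub X q q).arrow ≫ τ l q)
          (hmap l q _ (Subobject.factors_self _))
      obtain ⟨W, p, hp, hW⟩ := exists_epi_of_generators (Fsub X q q : C) σ (fun V ψ hψ => by
        let S := img (Fsub X (q + 1) (q + 1)).arrow (kernelSubobject ψ)
        have hle : Fsub X (q + 1) (q + 1) ≤ S := hgen q S fun l => by
          rw [img_le_iff]
          intro T x hx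
          obtain ⟨y, rfl⟩ : ∃ y, y ≫ (Fsub X q q).arrow = x :=
            ⟨_, Subobject.factorThru_arrow _ _ hx⟩
          have h1 : (kernelSubobject ψ).Factors (y ≫ σ l) := by
            rw [mem_kernel, Category.assoc, hψ l, comp_zero]
          have h2 := mem_img_of_mem (Fsub X (q + 1) (q + 1)).arrow h1
          simpa [σ] using h2
        obtain ⟨T', e, he, x, hx, hxy⟩ :=
          (mem_img _ _ _).1 (mem_mono hle (Subobject.factors_self _))
        have : e = x := (cancel_mono (Fsub X (q + 1) (q + 1)).arrow).1 hxy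
        rw [← cancel_epi e, comp_zero, this]
        exact (mem_kernel _ _).1 hx) P hP0 ih hPb
      exact hPe p hp hW
  induction n with
  | zero => exact h0
  | succ n ih =>
    refine hPx (Fsub X (n + 1) (n + 1)).arrow (tr X (Nat.le_succ n)) (w := ?_) ?_ (hT _) ih
    · exact (mem_Fsub_iff X (n + 1) (n + 1) _).1 (Subobject.factors_self _) n _ (Nat.lt_succ_self n)
    · rw [ShortComplex.exact_iff_exact_up_to_refinements]
      intro T x hx
      have hmem : (Fsub X (n + 1) (n + 1)).Factors x := by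
        rw [mem_Fsub_iff]
        intro j hj hjn
        rw [← tr_comp X (Nat.le_of_lt_succ hjn) (Nat.le_succ n), ← Category.assoc]
        exact (congrArg (· ≫ _) hx).trans zero_comp
      exact ⟨T, 𝟙 T, inferInstance, (Fsub X (n + 1) (n + 1)).factorThru x hmem,
        ((Category.id_comp x).trans (Subobject.factorThru_arrow _ x hmem).symm)⟩

theorem noetherian_components {X : PS C} (hX : IsAdic J X) (hJ : J.FG)
    (h0 : IsNoetherianObject (X.obj (op 0))) (n : ℕ) : IsNoetherianObject (X.obj (op n)) :=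
  prop_components hX hJ (fun W => IsNoetherianObject W)
    (fun W hW => isNoetherianObject_of_isZero hW)
    (fun U V _ _ => isNoetherianObject_biprod)
    (fun p _ _ => isNoetherianObject_of_epi p)
    (fun {_ _ _} i p {_} hex _ _ => isNoetherianObject_of_exact i p hex) h0 n

theorem artinian_components {X : PS C} (hX : IsAdic J X) (hJ : J.FG)
    (h0 : IsArtinianObject (X.obj (op 0))) (n : ℕ) : IsArtinianObject (X.obj (op n)) :=
  prop_components hX hJ (fun W => IsArtinianObject W)
    (fun W hW => isArtinianObject_of_isZero hW)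
    (fun U V _ _ => isArtinianObject_biprod)
    (fun p _ _ => isArtinianObject_of_epi p)
    (fun {_ _ _} i p {_} hex _ _ => isArtinianObject_of_exact i p hex) h0 n

/-- increasing sequences of graded submodules stabilize -/
theorem grSub_chain {X : PS C} (hX : IsAdicNoeth J X) (hJ : J.FG)
    (M : ℕ →o ((q : ℕ) → Subobject (X.obj (op q)))) (hM : ∀ i, IsGrSub J X (M i)) :
    ∃ n, ∀ m, n ≤ m → M n = M m := by
  obtain ⟨k, g, τ, hg, hτ, hcomm, hmap, hgen⟩ := exists_gr hX.1 hJ
  let D : GrData C k :=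
    { X := fun q => X.obj (op q), τ := τ, comm := hcomm, T := fun q => Fsub X q q,
      map_T := hmap, gen := hgen }
  have := hX.2 0
  refine D.closed_chain (isNoetherianObject_of_mono (D.T 0).arrow) M fun i => ⟨(hM i).1, ?_⟩
  intro l q T x hx
  have := adic_strict hX.1 q (q + 1) (Nat.le_succ q)
  obtain ⟨T', e, he, y, hy⟩ := surjective_up_to_refinements_of_epi (tr X (Nat.le_succ q)) x
  refine mem_of_epi_comp _ e _ ?_
  show (M i (q + 1)).Factors (e ≫ x ≫ τ l q)
  rw [← Category.assoc, hy, Category.assoc, hτ, Linear.comp_smul, Category.comp_id]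
  exact mem_of_isGrSub (hM i) (Nat.le_succ q) (by simpa using hg l) y (hy ▸ mem_comp e hx)

/-- the part of `grs(W)` seen inside `Y` -/
theorem isGrSub_img {W Y : PS C} (ι : W ⟶ Y) [Mono ι] (hW : IsStrict W) (hY : IsAdapted J Y)
    {M : (q : ℕ) → Subobject (W.obj (op q))} (hM : IsGrSub J W M) :
    IsGrSub J Y (fun q => img (ι.app (op q)) (M q)) := by
  refine isGrSub_mk (fun q => ?_) fun q m h a ha T x hx => ?_
  · rw [img_le_iff]
    intro T x hx
    have hF := (mem_Fsub_iff W q q x).1 (mem_mono (hM.1 q) hx)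
    rw [mem_Fsub_iff]
    intro j hj hjq
    rw [Category.assoc, ← tr_nat, ← Category.assoc, hF j hj hjq, zero_comp]
  · obtain ⟨T', e, he, z, hz, hze⟩ := (mem_img _ _ _).1 hx
    have := hW q m h
    obtain ⟨T'', e', he', w, hw⟩ := surjective_up_to_refinements_of_epi (tr W h) z
    refine mem_of_epi_comp _ (e' ≫ e) _ ?_
    have h0 : a • ((e' ≫ e) ≫ x - w ≫ ι.app (op m)) = 0 := by
      refine smul_eq_zero_of_adapted hY h ha _ ?_
      simp only [Preadditive.sub_comp, Category.assoc]
      rw [hze, ← Category.assoc e' z, hw, Category.assoc, tr_nat, sub_self]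
    rw [smul_sub, sub_eq_zero] at h0
    rw [Linear.comp_smul, h0, ← Linear.smul_comp]
    exact mem_img_of_mem _ (mem_of_isGrSub hM h ha w (hw ▸ mem_comp _ hz))

theorem isGrSub_top {X : PS C} (hX : IsStrict X) (hA : IsAdapted J X) :
    IsGrSub J X (fun q => Fsub X q q) := by
  refine isGrSub_mk (fun q => le_rfl) fun q m h a ha T x hx => ?_
  have hq : (Fsub X q m).Factors x := by
    rw [mem_Fsub_iff]
    intro j hj hjq
    have := (mem_Fsub_iff X q q _).1 hx j hjq.le hjq
    rwa [Category.assoc, tr_comp] at this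
  have := adapted_shift hA ha x hq
  rwa [show m - q + q = m by omega] at this

/-- strict subobjects of a Noetherian adic system have graded object of finite type -/
theorem grsFiniteType_of_mono {W Y : PS C} (ι : W ⟶ Y) [Mono ι] (hW : IsStrict W)
    (hY : IsAdicNoeth J Y) (hJ : J.FG) : GrsFiniteType J W := by
  intro M hM hmono hlub
  obtain ⟨n, hn⟩ := grSub_chain hY hJ ⟨fun i q => img (ι.app (op q)) (M i q),
    fun a b h q => img_mono _ (hmono h q)⟩
    fun i => isGrSub_img ι hW (adapted_of_adic hY.1) (hM i)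
  refine ⟨n, fun q => le_antisymm ((hM n).1 q) ((hlub q).2 ?_)⟩
  rintro _ ⟨i, rfl⟩
  rcases Nat.le_total i n with h | h
  · exact hmono h q
  · refine sub_le_of_mem fun T x hx => ?_
    have := congrFun (hn i h) q
    obtain ⟨T', e, he, y, hy, hye⟩ :=
      (mem_img _ _ _).1 (mem_mono this.ge (mem_img_of_mem (ι.app (op q)) hx))
    have := mono_app ι q
    rw [← Category.assoc, cancel_mono] at hye
    exact mem_of_epi_comp _ e x (hye ▸ hy)

/-- finite type strict graded object implies adic up to translation -/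
theorem arAdic_of_finiteType (hJ : J.FG ∨ HasCoproducts.{w} C) {X : PS C} (hX : IsStrict X)
    (hA : IsAdapted J X) (hft : GrsFiniteType J X) : IsARAdic J X := by
  choose Q π hπ using fun i q => exists_quot_pow hJ (q - i) (X.obj (op q))
  let M : ℕ → (q : ℕ) → Subobject (X.obj (op q)) := fun i q =>
    Fsub X q q ⊓ kernelSubobject (π i q)
  have hM : ∀ i, IsGrSub J X (M i) := by
    intro i
    refine isGrSub_mk (fun q => inf_le_left) fun q m h a ha T x hx => ?_
    rw [mem_inf, mem_kernel] at hx ⊢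
    refine ⟨mem_of_isGrSub (isGrSub_top hX hA) h ha x hx.1, ?_⟩
    have hker : kernel.ι (tr X h) ≫ (a • π i m) = 0 := by
      rw [Linear.comp_smul, ← Linear.smul_comp,
        smul_eq_zero_of_adapted hA h ha _ (kernel.condition _), zero_comp]
    have := hX q m h
    obtain ⟨θ, hθ⟩ : ∃ θ, tr X h ≫ θ = a • π i m :=
      ⟨Abelian.epiDesc _ _ hker, Abelian.comp_epiDesc _ _ _⟩
    have hk : HomKilledBy (J ^ (q - i)) θ := by
      refine hom_killed_of_epi (tr X h) (hθ ▸ fun b hb => ?_)
      rw [smul_smul]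
      refine killed_smul (hπ i m).1 (π i m) _ (pow_anti J (show m - i ≤ (q - i) + (m - q) by omega) ?_)
      rw [pow_add]
      exact Ideal.mul_mem_mul hb ha
    rw [Linear.smul_comp, ← Linear.comp_smul, ← hθ, ← Category.assoc]
    exact quot_vanish (hπ i q) hk hx.2
  have hmono : Monotone M := fun i j hij q => sub_le_of_mem fun T x hx => by
    rw [mem_inf, mem_kernel] at hx ⊢
    exact ⟨hx.1, quot_vanish (hπ i q)
      (hom_killed_anti (pow_anti J (by omega)) (killed_smul (hπ j q).1 (π j q))) hx.2⟩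
  obtain ⟨i, hi⟩ := hft M hM hmono fun q => by
    refine IsGreatest.isLUB ⟨⟨q, ?_⟩, ?_⟩
    · refine le_antisymm inf_le_left (sub_le_of_mem fun T x hx => ?_)
      rw [mem_inf, mem_kernel]
      refine ⟨hx, ?_⟩
      have h := killed_smul (hπ q q).1 (π q q)
      rw [Nat.sub_self, pow_zero, Ideal.one_eq_top] at h
      rw [killed_top_zero h, comp_zero]
    · rintro _ ⟨i, rfl⟩
      exact inf_le_left
  have kX : TermKilled J X := fun n a ha =>
    (adapted_iff X).1 hA n (n + 1) le_rfl a ha _ fun k hk hlt => absurd hlt (by omega)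
  refine arAdic_of_arCond (r := i) hJ hX kX fun k Z φ hφ T x hx => ?_
  have h1 : (Fsub X (k + 1) (k + 1)).Factors x := by
    rw [mem_Fsub_iff]
    intro j hj hjk
    rw [← tr_comp X (Nat.le_of_lt_succ hjk) (Nat.le_succ k), ← Category.assoc, hx, zero_comp]
  rw [← hi (k + 1)] at h1
  exact quot_vanish (hπ i (k + 1)) hφ ((mem_kernel _ _).1 ((mem_inf _ _ _).1 h1).2)

theorem arAdic_of_strict_sub (hJ : J.FG) {W Y : PS C} (ι : W ⟶ Y) [Mono ι] (hW : IsStrict W)
    (hY : IsAdicNoeth J Y) : IsARAdic J W :=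
  arAdic_of_finiteType (Or.inl hJ) hW (adapted_of_mono ι (adapted_of_adic hY.1))
    (grsFiniteType_of_mono ι hW hY hJ)

theorem arAdic_of_iso {X X' : PS C} (e : X ≅ X') (h : IsARAdic J X) : IsARAdic J X' :=
  arAdic_of_src e.hom (isARIso_of_isIso _) (termKilled_of_epi e.hom h.1) h

theorem adicNoeth_of_arIso {X Y : PS C} {u : Y ⟶ X} (hY : IsAdic J Y) (hu : IsARIso u)
    (hX : ∀ n, IsNoetherianObject (X.obj (op n))) : IsAdicNoeth J Y := by
  obtain ⟨t, ⟨q⟩⟩ := exists_qinv hu
  refine ⟨hY, fun n => ?_⟩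
  have := qinv_strict_epi q (adic_strict hY) n
  have := hX (n + t)
  exact isNoetherianObject_of_epi (q.v n)

theorem arAdicNoeth_X₁ (hJ : J.FG) {S : ShortComplex (PS C)} (hS : S.ShortExact)
    (h₂ : IsARAdicNoeth J S.X₂) (h₃ : IsARAdic J S.X₃) : IsARAdicNoeth J S.X₁ := by
  have : Mono S.f := hS.mono_f
  have k₁ : TermKilled J S.X₁ := termKilled_of_mono S.f h₂.1.1
  refine ⟨?_, fun n => ?_⟩
  · have hml := mlar_X₁ hS h₂.1.1 (mlar_of_arAdic h₂.1) h₃
    obtain ⟨-, Y, u, hY, hu⟩ := h₂.1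
    obtain ⟨k, -, hk⟩ := kernel_comp_arIso hS u hu
    obtain ⟨W, u', hu'm, hW, hu'⟩ := exists_strict_sub (mlar_of_iso_tgt hk hml)
    have : Mono (u' ≫ kernel.ι (u ≫ S.g)) := mono_comp _ _
    exact arAdic_of_src (u' ≫ k) (isARIso_comp hu' hk) k₁
      (arAdic_of_strict_sub hJ (u' ≫ kernel.ι (u ≫ S.g)) hW (adicNoeth_of_arIso hY hu h₂.2))
  · have := mono_app S.f n
    have := h₂.2 n
    exact isNoetherianObject_of_mono (S.f.app (op n))

theorem noeth_of_mono {X Y : PS C} (i : X ⟶ Y) [Mono i] (h : ∀ n, IsNoetherianObject (Y.obj (op n)))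
    (n : ℕ) : IsNoetherianObject (X.obj (op n)) := by
  have := mono_app i n
  have := h n
  exact isNoetherianObject_of_mono (i.app (op n))

theorem noeth_of_epi {X Y : PS C} (p : X ⟶ Y) [Epi p] (h : ∀ n, IsNoetherianObject (X.obj (op n)))
    (n : ℕ) : IsNoetherianObject (Y.obj (op n)) := by
  have := epi_app p n
  have := h n
  exact isNoetherianObject_of_epi (p.app (op n))

theorem mlar_quot {X Y : PS C} (p : X ⟶ Y) [Epi p] (h : IsMLAR X) : IsMLAR Y := by
  obtain ⟨r, hr⟩ := (mlar_iff X).1 h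
  refine (mlar_iff Y).2 ⟨r, fun n s hs T ψ hψ => ?_⟩
  have := epi_app p (n + r)
  rw [← cancel_epi (p.app (op (n + r))), comp_zero, sm, ← tr_nat_assoc]
  refine hr n s hs _ ?_
  rw [sm, tr_nat_assoc]
  exact (congrArg _ hψ).trans comp_zero

theorem arAdicNoeth_kernel_cokernel (hJ : J.FG) {X Y : PS C} (u : X ⟶ Y)
    (hX : IsARAdicNoeth J X) (hY : IsARAdicNoeth J Y) :
    IsARAdicNoeth J (kernel u) ∧ IsARAdicNoeth J (cokernel u) := by
  let S₁ : ShortComplex (PS C) := ShortComplex.mk (kernel.ι u) (Abelian.coimage.π u)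
    (cokernel.condition _)
  have hS₁ : S₁.ShortExact :=
    { exact := ShortComplex.exact_of_g_is_cokernel _ (cokernelIsCokernel _)
      mono_f := inferInstanceAs (Mono (kernel.ι u))
      epi_g := inferInstanceAs (Epi (cokernel.π _)) }
  let S₂ : ShortComplex (PS C) := ShortComplex.mk (Abelian.image.ι u) (cokernel.π u)
    (kernel.condition _)
  have hS₂ : S₂.ShortExact :=
    { exact := ShortComplex.exact_of_f_is_kernel _ (kernelIsKernel _)
      mono_f := inferInstanceAs (Mono (kernel.ι _))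
      epi_g := inferInstanceAs (Epi (cokernel.π u)) }
  have hI : IsMLAR (Abelian.image u) :=
    mlar_quot (Abelian.factorThruImage u) (mlar_of_arAdic hX.1)
  have hQ : IsARAdicNoeth J (cokernel u) :=
    ⟨arAdic_X₃ hS₂ (termKilled_of_epi (cokernel.π u) hY.1.1) hI hY.1,
      noeth_of_epi (cokernel.π u) hY.2⟩
  have hI' : IsARAdicNoeth J (Abelian.image u) := arAdicNoeth_X₁ hJ hS₂ hY hQ.1
  exact ⟨arAdicNoeth_X₁ hJ hS₁ hX
    (arAdic_of_iso (asIso (Abelian.coimageImageComparison u)).symm hI'.1), hQ⟩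

/-- increasing chains of strict subsystems stabilize -/
theorem strict_chain (hJ : J.FG) {X : PS C} (hX : IsAdicNoeth J X) (W : ℕ → PS C)
    (ι : ∀ k, W k ⟶ X) [∀ k, Mono (ι k)] (hW : ∀ k, IsStrict (W k))
    (inc : ∀ k m, k ≤ m → ∃ c : W k ⟶ W m, c ≫ ι m = ι k) :
    ∃ k₀, ∀ k, k₀ ≤ k → ∀ n, imageSubobject ((ι k).app (op n)) =
      imageSubobject ((ι k₀).app (op n)) := by
  have hA := adapted_of_adic hX.1
  let M : ℕ → (q : ℕ) → Subobject (X.obj (op q)) := fun k q =>
    img ((ι k).app (op q)) (Fsub (W k) q q)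
  have hle : ∀ k m, k ≤ m → ∀ n, imageSubobject ((ι k).app (op n)) ≤
      imageSubobject ((ι m).app (op n)) := by
    intro k m hkm n
    obtain ⟨c, hc⟩ := inc k m hkm
    rw [← hc, NatTrans.comp_app]
    exact imageSubobject_comp_le _ _
  have hmono : Monotone M := by
    intro k m hkm q
    obtain ⟨c, hc⟩ := inc k m hkm
    rw [img_le_iff]
    intro T x hx
    show (img ((ι m).app (op q)) (Fsub (W m) q q)).Factors (x ≫ (ι k).app (op q))
    rw [← hc, NatTrans.comp_app, ← Category.assoc]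
    refine mem_img_of_mem _ ?_
    rw [mem_Fsub_iff] at hx ⊢
    intro j hj hjq
    rw [Category.assoc, ← tr_nat, ← Category.assoc, hx j hj hjq, zero_comp]
  obtain ⟨n₀, hn₀⟩ := grSub_chain hX hJ ⟨M, hmono⟩ fun k =>
    isGrSub_img (ι k) (hW k) hA (isGrSub_top (hW k) (adapted_of_mono (ι k) hA))
  refine ⟨n₀, fun k hk n => le_antisymm (sub_le_of_mem fun T x hx => ?_) (hle n₀ k hk n)⟩
  induction n generalizing T with
  | zero =>
    obtain ⟨T', e, he, y, hy⟩ := (mem_image _ _).1 hx
    have h1 : (M k 0).Factors (y ≫ (ι k).app (op 0)) := mem_img_of_mem _ (mem_top y)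
    have h2 : (M n₀ 0).Factors (y ≫ (ι k).app (op 0)) :=
      mem_mono (congrFun (hn₀ k hk) 0).ge h1
    obtain ⟨T'', e', he', z, -, hz⟩ := (mem_img _ _ _).1 h2
    refine mem_of_epi_comp _ (e' ≫ e) x ?_
    rw [Category.assoc, hy, hz]
    exact mem_image_self _ z
  | succ n ih =>
    obtain ⟨T₁, e₁, he₁, y, hy⟩ := (mem_image _ _).1 hx
    have h1 := ih _ (e₁ ≫ x ≫ tr X (Nat.le_succ n)) (by
      rw [← Category.assoc, hy, Category.assoc, ← tr_nat, ← Category.assoc]
      exact mem_image_self _ _)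
    obtain ⟨T₂, e₂, he₂, z, hz⟩ := (mem_image _ _).1 h1
    have := hW n₀ n (n + 1) (Nat.le_succ n)
    obtain ⟨T₃, e₃, he₃, z', hz'⟩ :=
      surjective_up_to_refinements_of_epi (tr (W n₀) (Nat.le_succ n)) z
    obtain ⟨c, hc⟩ := inc n₀ k hk
    have := mono_app (ι k) n
    have hker : (Fsub (W k) (n + 1) (n + 1)).Factors
        ((e₃ ≫ e₂) ≫ y - z' ≫ c.app (op (n + 1))) := by
      rw [mem_Fsub_iff]
      intro j hj hjn
      have h0 : ((e₃ ≫ e₂) ≫ y - z' ≫ c.app (op (n + 1))) ≫ tr (W k) (Nat.le_succ n) = 0 := by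
        rw [← cancel_mono ((ι k).app (op n)), zero_comp, Category.assoc, tr_nat,
          Preadditive.sub_comp, sub_eq_zero]
        have hcn : c.app (op (n + 1)) ≫ (ι k).app (op (n + 1)) = (ι n₀).app (op (n + 1)) :=
          NatTrans.congr_app hc (op (n + 1))
        calc ((e₃ ≫ e₂) ≫ y) ≫ (ι k).app (op (n + 1)) ≫ tr X (Nat.le_succ n)
            = e₃ ≫ e₂ ≫ e₁ ≫ x ≫ tr X (Nat.le_succ n) := by
              simp only [Category.assoc, reassoc_of% hy]
          _ = e₃ ≫ z ≫ (ι n₀).app (op n) := by rw [hz]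
          _ = z' ≫ tr (W n₀) (Nat.le_succ n) ≫ (ι n₀).app (op n) := by
              rw [← Category.assoc, hz', Category.assoc]
          _ = z' ≫ (ι n₀).app (op (n + 1)) ≫ tr X (Nat.le_succ n) := by rw [tr_nat]
          _ = (z' ≫ c.app (op (n + 1))) ≫ (ι k).app (op (n + 1)) ≫ tr X (Nat.le_succ n) := by
              simp only [Category.assoc, reassoc_of% hcn]
      rw [← tr_comp (W k) (Nat.le_of_lt_succ hjn) (Nat.le_succ n), ← Category.assoc, h0, zero_comp]
    have h2 : (M n₀ (n + 1)).Factors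
        (((e₃ ≫ e₂) ≫ y - z' ≫ c.app (op (n + 1))) ≫ (ι k).app (op (n + 1))) :=
      mem_mono (congrFun (hn₀ k hk) (n + 1)).ge (mem_img_of_mem _ hker)
    obtain ⟨T₄, e₄, he₄, u, -, hu⟩ := (mem_img _ _ _).1 h2
    refine mem_of_epi_comp _ (e₄ ≫ e₃ ≫ e₂ ≫ e₁) x ?_
    have key : (e₄ ≫ e₃ ≫ e₂ ≫ e₁) ≫ x = (u + e₄ ≫ z') ≫ (ι n₀).app (op (n + 1)) := by
      rw [Preadditive.add_comp, ← hu, ← hc, NatTrans.comp_app]
      simp only [Category.assoc, hy, Preadditive.sub_comp, Preadditive.comp_sub, sub_add_cancel]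
    rw [key]
    exact mem_image_self _ _

end Groth.Agent.ARLib
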