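import Mathlib.CategoryTheory.Abelian.Refinements
import Mathlib.CategoryTheory.Subobject.Lattice
import Mathlib.CategoryTheory.Subobject.Limits
import Mathlib.CategoryTheory.Subobject.NoetherianObject
import Mathlib.CategoryTheory.Subobject.ArtinianObject
import Mathlib.CategoryTheory.Abelian.CommSq
import Mathlib.CategoryTheory.Adhesive.Basic

/-!
Element calculus for subobjects in an abelian category: a "generalized element" `x : T ⟶ X` of a
subobject `S` is one through which `S` factors; membership is local for epimorphisms.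
-/

set_option linter.unusedSectionVars false

universe v u

open CategoryTheory CategoryTheory.Limits

namespace Groth.Agent.ARLib

variable {C : Type u} [Category.{v} C] [Abelian C]

/-- any morphism out of a subobject extends to the ambient object after a monomorphism -/
theorem extend_mono {X Y Z : C} (ι : Y ⟶ X) [Mono ι] (χ : Y ⟶ Z) :
    ∃ (P : C) (j : Z ⟶ P) (ψ : X ⟶ P), Mono j ∧ ι ≫ ψ = χ ≫ j :=
  ⟨pushout ι χ, pushout.inr _ _, pushout.inl _ _, inferInstance, pushout.condition⟩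

theorem epi_of_cancel {X Y : C} {f : X ⟶ Y} (h : ∀ ⦃Z : C⦄ (ψ : Y ⟶ Z), f ≫ ψ = 0 → ψ = 0) : Epi f :=
  ⟨fun g g' w => sub_eq_zero.1 (h (g - g') (by rw [Preadditive.comp_sub, w, sub_self]))⟩

theorem mono_of_cancel {X Y : C} {f : X ⟶ Y} (h : ∀ ⦃Z : C⦄ (x : Z ⟶ X), x ≫ f = 0 → x = 0) : Mono f :=
  ⟨fun g g' w => sub_eq_zero.1 (h (g - g') (by rw [Preadditive.sub_comp, w, sub_self]))⟩

/-- membership is local for epimorphisms -/
theorem mem_iff_comp_cokernel {X T : C} (S : Subobject X) (x : T ⟶ X) :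
    S.Factors x ↔ x ≫ cokernel.π S.arrow = 0 := by
  constructor
  · intro h
    obtain ⟨g, hg⟩ : ∃ g, g ≫ S.arrow = x := ⟨_, Subobject.factorThru_arrow S _ h⟩
    rw [← hg, Category.assoc, cokernel.condition, comp_zero]
  · intro hz
    have : Mono S.arrow := inferInstance
    have h := Subobject.factors_comp_arrow (Abelian.monoLift S.arrow x hz)
    rwa [Abelian.monoLift_comp] at h

/-- membership is local for epimorphisms -/
theorem mem_of_epi_comp {X A B : C} (S : Subobject X) (e : A ⟶ B) [Epi e] (x : B ⟶ X)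
    (h : S.Factors (e ≫ x)) : S.Factors x := by
  rw [mem_iff_comp_cokernel] at h ⊢
  rwa [Category.assoc, ← comp_zero (f := e), cancel_epi] at h

theorem sub_le_of_mem {X : C} {S T : Subobject X}
    (h : ∀ ⦃A : C⦄ (x : A ⟶ X), S.Factors x → T.Factors x) : S ≤ T := by
  have := h S.arrow (S.factors_self)
  exact Subobject.le_of_comm (T.factorThru _ this) (Subobject.factorThru_arrow _ _ _)

theorem sub_ext {X : C} {S T : Subobject X}
    (h : ∀ ⦃A : C⦄ (x : A ⟶ X), S.Factors x ↔ T.Factors x) : S = T :=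
  le_antisymm (sub_le_of_mem fun _ x => (h x).1) (sub_le_of_mem fun _ x => (h x).2)

theorem mem_mono {X T : C} {S S' : Subobject X} (h : S ≤ S') {x : T ⟶ X} (hx : S.Factors x) :
    S'.Factors x := Subobject.factors_of_le x h hx

theorem mem_add {X T : C} {S : Subobject X} {x y : T ⟶ X} (hx : S.Factors x) (hy : S.Factors y) :
    S.Factors (x + y) := by
  rw [mem_iff_comp_cokernel] at hx hy ⊢
  rw [Preadditive.add_comp, hx, hy, add_zero]

theorem mem_sub {X T : C} {S : Subobject X} {x y : T ⟶ X} (hx : S.Factors x) (hy : S.Factors y) :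
    S.Factors (x - y) := by
  rw [mem_iff_comp_cokernel] at hx hy ⊢
  rw [Preadditive.sub_comp, hx, hy, sub_zero]

theorem mem_zero {X T : C} (S : Subobject X) : S.Factors (0 : T ⟶ X) :=
  Subobject.factors_zero

theorem mem_comp {X T T' : C} {S : Subobject X} (y : T' ⟶ T) {x : T ⟶ X} (hx : S.Factors x) :
    S.Factors (y ≫ x) := Subobject.factors_of_factors_right y hx

theorem mem_image {X Y T : C} (f : X ⟶ Y) (y : T ⟶ Y) :
    (imageSubobject f).Factors y ↔
      ∃ (T' : C) (e : T' ⟶ T) (_ : Epi e) (x : T' ⟶ X), e ≫ y = x ≫ f := by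
  constructor
  · intro h
    obtain ⟨T', e, he, x, hx⟩ := surjective_up_to_refinements_of_epi
      (factorThruImageSubobject f) ((imageSubobject f).factorThru y h)
    refine ⟨T', e, he, x, ?_⟩
    have := hx =≫ (imageSubobject f).arrow
    simpa using this
  · rintro ⟨T', e, he, x, hx⟩
    exact mem_of_epi_comp _ e y (hx ▸ imageSubobject_factors_comp_self f x)

theorem mem_image_self {X Y : C} (f : X ⟶ Y) {T : C} (x : T ⟶ X) :
    (imageSubobject f).Factors (x ≫ f) := imageSubobject_factors_comp_self f x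

theorem mem_kernel {X Y T : C} (f : X ⟶ Y) (x : T ⟶ X) :
    (kernelSubobject f).Factors x ↔ x ≫ f = 0 := kernelSubobject_factors_iff _ _

theorem mem_inf {X T : C} (S S' : Subobject X) (x : T ⟶ X) :
    (S ⊓ S').Factors x ↔ S.Factors x ∧ S'.Factors x :=
  Subobject.inf_factors _

theorem mem_top {X T : C} (x : T ⟶ X) : (⊤ : Subobject X).Factors x := Subobject.top_factors _

theorem mem_bot {X T : C} (x : T ⟶ X) : (⊥ : Subobject X).Factors x ↔ x = 0 :=
  Subobject.bot_factors_iff_zero _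

/-- preimage of a subobject -/
noncomputable def pre {X Y : C} (f : X ⟶ Y) (S : Subobject Y) : Subobject X :=
  (Subobject.pullback f).obj S

theorem mem_pre {X Y T : C} (f : X ⟶ Y) (S : Subobject Y) (x : T ⟶ X) :
    (pre f S).Factors x ↔ S.Factors (x ≫ f) := pullback_factors_iff _ _ _

theorem pre_mono {X Y : C} (f : X ⟶ Y) {S S' : Subobject Y} (h : S ≤ S') : pre f S ≤ pre f S' :=
  sub_le_of_mem fun _ x hx => (mem_pre _ _ _).2 (mem_mono h ((mem_pre _ _ _).1 hx))

/-- direct image of a subobject -/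
noncomputable def img {X Y : C} (f : X ⟶ Y) (S : Subobject X) : Subobject Y :=
  imageSubobject (S.arrow ≫ f)

theorem mem_img {X Y T : C} (f : X ⟶ Y) (S : Subobject X) (y : T ⟶ Y) :
    (img f S).Factors y ↔
      ∃ (T' : C) (e : T' ⟶ T) (_ : Epi e) (x : T' ⟶ X), S.Factors x ∧ e ≫ y = x ≫ f := by
  rw [img, mem_image]
  constructor
  · rintro ⟨T', e, he, x, hx⟩
    exact ⟨T', e, he, x ≫ S.arrow, Subobject.factors_comp_arrow x, by rw [hx, Category.assoc]⟩
  · rintro ⟨T', e, he, x, hS, hx⟩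
    exact ⟨T', e, he, S.factorThru x hS, by rw [hx, Subobject.factorThru_arrow_assoc]⟩

theorem mem_img_of_mem {X Y T : C} (f : X ⟶ Y) {S : Subobject X} {x : T ⟶ X} (hx : S.Factors x) :
    (img f S).Factors (x ≫ f) :=
  (mem_img _ _ _).2 ⟨T, 𝟙 T, inferInstance, x, hx, Category.id_comp _⟩

theorem img_le_iff {X Y : C} (f : X ⟶ Y) (S : Subobject X) (S' : Subobject Y) :
    img f S ≤ S' ↔ ∀ ⦃T : C⦄ (x : T ⟶ X), S.Factors x → S'.Factors (x ≫ f) := by
  constructor
  · intro h T x hx
    exact mem_mono h (mem_img_of_mem f hx)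
  · intro h
    refine sub_le_of_mem fun T y hy => ?_
    obtain ⟨T', e, he, x, hx, hxy⟩ := (mem_img _ _ _).1 hy
    exact mem_of_epi_comp _ e y (hxy ▸ h x hx)

theorem img_mono {X Y : C} (f : X ⟶ Y) {S S' : Subobject X} (h : S ≤ S') : img f S ≤ img f S' :=
  (img_le_iff _ _ _).2 fun _ _ hx => mem_img_of_mem f (mem_mono h hx)

theorem mem_sup {X T : C} (S S' : Subobject X) (x : T ⟶ X) :
    (S ⊔ S').Factors x ↔ ∃ (T' : C) (e : T' ⟶ T) (_ : Epi e) (s s' : T' ⟶ X),
      S.Factors s ∧ S'.Factors s' ∧ e ≫ x = s + s' := by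
  constructor
  · intro h
    have hle : S ⊔ S' ≤ imageSubobject (biprod.desc S.arrow S'.arrow) := by
      refine sup_le ?_ ?_
      · refine sub_le_of_mem fun A y hy => ?_
        have := mem_image_self (biprod.desc S.arrow S'.arrow) (S.factorThru y hy ≫ biprod.inl)
        simpa using this
      · refine sub_le_of_mem fun A y hy => ?_
        have := mem_image_self (biprod.desc S.arrow S'.arrow) (S'.factorThru y hy ≫ biprod.inr)
        simpa using this
    obtain ⟨T', e, he, w, hw⟩ := (mem_image _ _).1 (mem_mono hle h)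
    refine ⟨T', e, he, (w ≫ biprod.fst) ≫ S.arrow, (w ≫ biprod.snd) ≫ S'.arrow,
      Subobject.factors_comp_arrow _, Subobject.factors_comp_arrow _, ?_⟩
    rw [hw, Category.assoc, Category.assoc, ← Preadditive.comp_add, biprod.desc_eq]
  · rintro ⟨T', e, he, s, s', hs, hs', heq⟩
    exact mem_of_epi_comp _ e x (heq ▸ mem_add (mem_mono le_sup_left hs) (mem_mono le_sup_right hs'))

theorem imageSubobject_le_of_cancel {X X' Y : C} (f : X ⟶ Y) (g : X' ⟶ Y)
    (h : ∀ ⦃Z : C⦄ (ψ : Y ⟶ Z), g ≫ ψ = 0 → f ≫ ψ = 0) :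
    imageSubobject f ≤ imageSubobject g := by
  refine sub_le_of_mem fun T y hy => ?_
  obtain ⟨T', e, he, x, hx⟩ := (mem_image _ _).1 hy
  refine mem_of_epi_comp _ e y ((mem_iff_comp_cokernel _ _).2 ?_)
  have hg : g ≫ cokernel.π (imageSubobject g).arrow = 0 :=
    (mem_iff_comp_cokernel _ g).1 (by simpa using mem_image_self g (𝟙 X'))
  rw [hx, Category.assoc, h _ hg, comp_zero]

theorem comp_eq_zero_of_imageSubobject_le {X X' Y Z : C} {f : X ⟶ Y} {g : X' ⟶ Y}
    (h : imageSubobject f ≤ imageSubobject g) {ψ : Y ⟶ Z} (hψ : g ≫ ψ = 0) : f ≫ ψ = 0 := by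
  have hf : (imageSubobject g).Factors f :=
    mem_mono h (by simpa using mem_image_self f (𝟙 X))
  have h' : (imageSubobject g).arrow ≫ ψ = 0 := imageSubobject_arrow_comp_eq_zero hψ
  rw [← Subobject.factorThru_arrow _ _ hf, Category.assoc, h', comp_zero]

theorem imageSubobject_eq_iff {X X' Y : C} (f : X ⟶ Y) (g : X' ⟶ Y) :
    imageSubobject f = imageSubobject g ↔ ∀ ⦃Z : C⦄ (ψ : Y ⟶ Z), f ≫ ψ = 0 ↔ g ≫ ψ = 0 := by
  constructor
  · intro h Z ψ
    exact ⟨comp_eq_zero_of_imageSubobject_le h.ge, comp_eq_zero_of_imageSubobject_le h.le⟩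
  · intro h
    exact le_antisymm (imageSubobject_le_of_cancel _ _ fun Z ψ => (h ψ).2)
      (imageSubobject_le_of_cancel _ _ fun Z ψ => (h ψ).1)

/-! ### Noetherian and Artinian objects -/

theorem eq_of_inf_eq_of_img_eq {A B Q : C} (i : A ⟶ B) (p : B ⟶ Q) {w : i ≫ p = 0}
    (hex : (ShortComplex.mk i p w).Exact) {N N' : Subobject B} (hle : N ≤ N')
    (h1 : pre i N' ≤ pre i N) (h2 : img p N' ≤ img p N) : N = N' := by
  refine le_antisymm hle (sub_le_of_mem fun T x hx => ?_)
  obtain ⟨T', e, he, y, hy, hxy⟩ := (mem_img p N _).1 (mem_mono h2 (mem_img_of_mem p hx))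
  obtain ⟨T'', e', he', a, ha⟩ := hex.exact_up_to_refinements (e ≫ x - y)
    (by simp [Preadditive.sub_comp, hxy])
  have hxy' : N'.Factors (a ≫ i) := by
    dsimp at ha
    rw [← ha]
    exact mem_comp _ (mem_sub (mem_comp _ hx) (mem_mono hle hy))
  have : N.Factors (a ≫ i) := (mem_pre _ _ _).1 (mem_mono h1 ((mem_pre _ _ _).2 hxy'))
  refine mem_of_epi_comp _ (e' ≫ e) x ?_
  have hkey : (e' ≫ e) ≫ x = a ≫ i + e' ≫ y := by
    dsimp at ha
    rw [← ha, Preadditive.comp_sub, sub_add_cancel, Category.assoc]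
  rw [hkey]
  exact mem_add this (mem_comp _ hy)

theorem isNoetherianObject_of_exact {A B Q : C} (i : A ⟶ B) (p : B ⟶ Q) {w : i ≫ p = 0}
    (hex : (ShortComplex.mk i p w).Exact) [IsNoetherianObject A] [IsNoetherianObject Q] :
    IsNoetherianObject B := by
  rw [isNoetherianObject_iff_monotone_chain_condition]
  intro f
  obtain ⟨n, hn⟩ := monotone_chain_condition_of_isNoetherianObject
    (⟨fun k => pre i (f k), fun a b h => pre_mono i (f.2 h)⟩ : ℕ →o Subobject A)
  obtain ⟨m, hm⟩ := monotone_chain_condition_of_isNoetherianObject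
    (⟨fun k => img p (f k), fun a b h => img_mono p (f.2 h)⟩ : ℕ →o Subobject Q)
  refine ⟨max n m, fun k hk => ?_⟩
  refine eq_of_inf_eq_of_img_eq i p hex (f.2 hk) (le_of_eq ?_) (le_of_eq ?_)
  · exact (hn k (le_trans (le_max_left _ _) hk)).symm.trans (hn _ (le_max_left _ _))
  · exact (hm k (le_trans (le_max_right _ _) hk)).symm.trans (hm _ (le_max_right _ _))

theorem isArtinianObject_of_exact {A B Q : C} (i : A ⟶ B) (p : B ⟶ Q) {w : i ≫ p = 0}
    (hex : (ShortComplex.mk i p w).Exact) [IsArtinianObject A] [IsArtinianObject Q] :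
    IsArtinianObject B := by
  rw [isArtinianObject_iff_antitone_chain_condition]
  intro f
  obtain ⟨n, hn⟩ := antitone_chain_condition_of_isArtinianObject
    (⟨fun k => OrderDual.toDual (pre i (OrderDual.ofDual (f k))),
      fun a b h => pre_mono i (f.2 h)⟩ : ℕ →o (Subobject A)ᵒᵈ)
  obtain ⟨m, hm⟩ := antitone_chain_condition_of_isArtinianObject
    (⟨fun k => OrderDual.toDual (img p (OrderDual.ofDual (f k))),
      fun a b h => img_mono p (f.2 h)⟩ : ℕ →o (Subobject Q)ᵒᵈ)
  refine ⟨max n m, fun k hk => ?_⟩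
  refine (eq_of_inf_eq_of_img_eq (N := OrderDual.ofDual (f k))
    (N' := OrderDual.ofDual (f (max n m))) i p hex (f.2 hk) (le_of_eq ?_) (le_of_eq ?_)).symm
  · exact congrArg OrderDual.ofDual
      ((hn _ (le_max_left _ _)).symm.trans (hn k (le_trans (le_max_left _ _) hk)))
  · exact congrArg OrderDual.ofDual
      ((hm _ (le_max_right _ _)).symm.trans (hm k (le_trans (le_max_right _ _) hk)))

theorem pre_le_pre_iff {X Y : C} (p : X ⟶ Y) [Epi p] {S S' : Subobject Y} :
    pre p S ≤ pre p S' ↔ S ≤ S' := by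
  refine ⟨fun h => sub_le_of_mem fun T y hy => ?_, pre_mono p⟩
  obtain ⟨T', e, he, x, hx⟩ := surjective_up_to_refinements_of_epi p y
  refine mem_of_epi_comp _ e y (hx ▸ (mem_pre _ _ _).1 (mem_mono h ((mem_pre _ _ _).2 ?_)))
  exact hx ▸ mem_comp e hy

theorem pre_injective {X Y : C} (p : X ⟶ Y) [Epi p] : Function.Injective (pre p) :=
  fun _ _ h => le_antisymm ((pre_le_pre_iff p).1 h.le) ((pre_le_pre_iff p).1 h.ge)

theorem isNoetherianObject_of_epi {X Y : C} (p : X ⟶ Y) [Epi p] [IsNoetherianObject X] :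
    IsNoetherianObject Y := by
  rw [isNoetherianObject_iff_monotone_chain_condition]
  intro f
  obtain ⟨n, hn⟩ := monotone_chain_condition_of_isNoetherianObject
    (⟨fun k => pre p (f k), fun a b h => pre_mono p (f.2 h)⟩ : ℕ →o Subobject X)
  exact ⟨n, fun m hm => pre_injective p (hn m hm)⟩

theorem isArtinianObject_of_epi {X Y : C} (p : X ⟶ Y) [Epi p] [IsArtinianObject X] :
    IsArtinianObject Y := by
  rw [isArtinianObject_iff_antitone_chain_condition]
  intro f
  obtain ⟨n, hn⟩ := antitone_chain_condition_of_isArtinianObject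
    (⟨fun k => OrderDual.toDual (pre p (OrderDual.ofDual (f k))),
      fun a b h => pre_mono p (f.2 h)⟩ : ℕ →o (Subobject X)ᵒᵈ)
  exact ⟨n, fun m hm => pre_injective p (hn m hm)⟩

theorem isNoetherianObject_biprod {X Y : C} [IsNoetherianObject X] [IsNoetherianObject Y] :
    IsNoetherianObject (X ⊞ Y) :=
  isNoetherianObject_of_exact (biprod.inl : X ⟶ X ⊞ Y) biprod.snd (w := biprod.inl_snd)
    (ShortComplex.Splitting.ofHasBinaryBiproduct X Y).exact

theorem isArtinianObject_biprod {X Y : C} [IsArtinianObject X] [IsArtinianObject Y] :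
    IsArtinianObject (X ⊞ Y) :=
  isArtinianObject_of_exact (biprod.inl : X ⟶ X ⊞ Y) biprod.snd (w := biprod.inl_snd)
    (ShortComplex.Splitting.ofHasBinaryBiproduct X Y).exact

/-- if finitely many maps out of copies of `Z` jointly generate `X`, then there is an epi from an
object having any property closed under biproducts and zero. -/
theorem exists_epi_of_generators {X : C} {k : ℕ} (Z : C) (τ : Fin k → (Z ⟶ X))
    (h : ∀ ⦃W : C⦄ (ψ : X ⟶ W), (∀ i, τ i ≫ ψ = 0) → ψ = 0)
    (P : C → Prop) (hP0 : ∀ W, IsZero W → P W) (hPZ : P Z)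
    (hPb : ∀ U V : C, P U → P V → P (U ⊞ V)) :
    ∃ (W : C) (p : W ⟶ X), Epi p ∧ P W := by
  suffices ∀ (k : ℕ) (τ : Fin k → (Z ⟶ X)), ∃ (W : C) (p : W ⟶ X), P W ∧
      ∀ ⦃V : C⦄ (ψ : X ⟶ V), p ≫ ψ = 0 → ∀ i, τ i ≫ ψ = 0 by
    obtain ⟨W, p, hW, hp⟩ := this k τ
    exact ⟨W, p, epi_of_cancel fun V ψ hψ => h ψ (hp ψ hψ), hW⟩
  intro k
  induction k with
  | zero => exact fun τ => ⟨_, 0, hP0 _ (isZero_zero C), fun V ψ _ i => i.elim0⟩
  | succ k ih =>
    intro τ
    obtain ⟨W, p, hW, hp⟩ := ih (fun i => τ i.succ)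
    refine ⟨Z ⊞ W, biprod.desc (τ 0) p, hPb _ _ hPZ hW, fun V ψ hψ i => ?_⟩
    have h0 : τ 0 ≫ ψ = 0 := by
      have := biprod.inl ≫= hψ
      simpa using this
    have h1 : p ≫ ψ = 0 := by
      have := biprod.inr ≫= hψ
      simpa using this
    exact Fin.cases h0 (hp ψ h1) i

/-- diagonal stabilization of a double chain -/
theorem double_chain {α : Type*} [PartialOrder α]
    (hacc : ∀ f : ℕ →o α, ∃ n, ∀ m, n ≤ m → f n = f m)
    (N : ℕ → ℕ → α) (h1 : ∀ j, Monotone (fun i => N i j)) (h2 : ∀ i, Monotone (N i)) :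
    ∃ i₀, ∀ i, i₀ ≤ i → ∀ j, N i j = N i₀ j := by
  obtain ⟨d, hd⟩ := hacc ⟨fun i => N i i, fun a b h => le_trans (h2 a h) (h1 b h)⟩
  have hlow : ∀ j : Fin d, ∃ ij, ∀ i, ij ≤ i → N ij j = N i j :=
    fun j => hacc ⟨fun i => N i j, h1 j⟩
  choose f hf using hlow
  refine ⟨max d (Finset.univ.sup f), fun i hi j => ?_⟩
  rcases Nat.lt_or_ge j d with hj | hj
  · have hs : f ⟨j, hj⟩ ≤ max d (Finset.univ.sup f) :=
      le_trans (Finset.le_sup (Finset.mem_univ _)) (le_max_right _ _)
    exact (hf ⟨j, hj⟩ i (le_trans hs hi)).symm.trans (hf ⟨j, hj⟩ _ hs)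
  · have key : ∀ a, d ≤ a → N a j = N d d := by
      intro a ha
      refine le_antisymm ?_ (le_trans (h1 d ha) (h2 a hj))
      have : N a j ≤ N (max a j) (max a j) :=
        le_trans (h1 j (le_max_left a j)) (h2 _ (le_max_right a j))
      exact le_of_le_of_eq this (hd _ (le_trans ha (le_max_left _ _))).symm
    exact (key i (le_trans (le_max_left _ _) hi)).trans (key _ (le_max_left _ _)).symm

end Groth.Agent.ARLib
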