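import Groth.Prelude.Def_ARSys
import Groth.Agent.ARLib.Sub
import Mathlib.RingTheory.Finiteness.Ideal

/-!
Quotient maps modulo an ideal (`ARSys.IsQuot`) in a linear abelian category.
-/

set_option linter.unusedSectionVars false

universe w v u

open CategoryTheory CategoryTheory.Limits ARSys

namespace Groth.Agent.ARLib

attribute [local instance] Abelian.hasFiniteBiproducts

variable {C : Type u} [Category.{v} C] [Abelian C] {A : Type w} [CommRing A] [Linear A C]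

theorem killed_top_zero {X : C} {Y : C} {φ : X ⟶ Y} (h : HomKilledBy (⊤ : Ideal A) φ) : φ = 0 := by
  simpa using h 1 trivial

theorem hom_killed_anti {I I' : Ideal A} (h : I ≤ I') {X Y : C} {φ : X ⟶ Y} (hφ : HomKilledBy I' φ) :
    HomKilledBy I φ := fun a ha => hφ a (h ha)

theorem killed_anti {I I' : Ideal A} (h : I ≤ I') {X : C} (hX : KilledBy I' X) : KilledBy I X :=
  fun a ha => hX a (h ha)

theorem killed_smul {I : Ideal A} {X : C} (hX : KilledBy I X) {T : C} (φ : T ⟶ X) :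
    HomKilledBy I φ := fun a ha => by
  have := φ ≫= hX a ha
  simpa using this

theorem killed_smul' {I : Ideal A} {X : C} (hX : KilledBy I X) {T : C} (φ : X ⟶ T) :
    HomKilledBy I φ := fun a ha => by
  have := hX a ha =≫ φ
  simpa using this

theorem hom_killed_comp {I : Ideal A} {X Y Z : C} {φ : X ⟶ Y} (h : HomKilledBy I φ) (ψ : Y ⟶ Z) :
    HomKilledBy I (φ ≫ ψ) := fun a ha => by rw [← Linear.smul_comp, h a ha, zero_comp]

theorem hom_killed_precomp {I : Ideal A} {X Y Z : C} (φ : X ⟶ Y) {ψ : Y ⟶ Z}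
    (h : HomKilledBy I ψ) : HomKilledBy I (φ ≫ ψ) := fun a ha => by
  rw [← Linear.comp_smul, h a ha, comp_zero]

theorem hom_killed_of_epi {I : Ideal A} {X Y Z : C} (φ : X ⟶ Y) [Epi φ] {ψ : Y ⟶ Z}
    (h : HomKilledBy I (φ ≫ ψ)) : HomKilledBy I ψ := fun a ha => by
  rw [← cancel_epi φ, comp_zero, Linear.comp_smul]
  exact h a ha

theorem hom_killed_of_mono {I : Ideal A} {X Y Z : C} {φ : X ⟶ Y} (ψ : Y ⟶ Z) [Mono ψ]
    (h : HomKilledBy I (φ ≫ ψ)) : HomKilledBy I φ := fun a ha => by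
  rw [← cancel_mono ψ, zero_comp, Linear.smul_comp]
  exact h a ha

theorem hom_killed_sub {I : Ideal A} {X Y : C} {φ ψ : X ⟶ Y} (h : HomKilledBy I φ)
    (h' : HomKilledBy I ψ) : HomKilledBy I (φ - ψ) := fun a ha => by
  rw [smul_sub, h a ha, h' a ha, sub_zero]

theorem killed_of_mono {I : Ideal A} {X Y : C} (i : X ⟶ Y) [Mono i] (hY : KilledBy I Y) :
    KilledBy I X :=
  hom_killed_of_mono i (φ := 𝟙 X) (by simpa using killed_smul hY i)

theorem killed_of_epi {I : Ideal A} {X Y : C} (p : X ⟶ Y) [Epi p] (hX : KilledBy I X) :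
    KilledBy I Y :=
  hom_killed_of_epi p (ψ := 𝟙 Y) (by simpa using killed_smul' hX p)

theorem killed_iso {I : Ideal A} {X Y : C} (e : X ≅ Y) (hX : KilledBy I X) : KilledBy I Y :=
  killed_of_epi e.hom hX

theorem killed_pushout {I : Ideal A} {X Y Z : C} (f : X ⟶ Y) (g : X ⟶ Z) (hY : KilledBy I Y)
    (hZ : KilledBy I Z) : KilledBy I (pushout f g) := fun a ha => by
  apply pushout.hom_ext
  · rw [comp_zero, Linear.comp_smul, Category.comp_id]
    exact killed_smul' hY (pushout.inl f g) a ha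
  · rw [comp_zero, Linear.comp_smul, Category.comp_id]
    exact killed_smul' hZ (pushout.inr f g) a ha

theorem killed_biprod {I : Ideal A} {Y Z : C} (hY : KilledBy I Y) (hZ : KilledBy I Z) :
    KilledBy I (Y ⊞ Z) := fun a ha => by
  apply biprod.hom_ext'
  · rw [comp_zero, Linear.comp_smul, Category.comp_id]
    exact killed_smul' hY (biprod.inl : Y ⟶ Y ⊞ Z) a ha
  · rw [comp_zero, Linear.comp_smul, Category.comp_id]
    exact killed_smul' hZ (biprod.inr : Z ⟶ Y ⊞ Z) a ha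

/-- extension along a monomorphism, preserving killedness -/
theorem extend_mono_killed {I : Ideal A} {X Y Z : C} (ι : Y ⟶ X) [Mono ι] (χ : Y ⟶ Z)
    (hX : KilledBy I X) (hZ : KilledBy I Z) :
    ∃ (P : C) (j : Z ⟶ P) (ψ : X ⟶ P), Mono j ∧ KilledBy I P ∧ ι ≫ ψ = χ ≫ j :=
  ⟨pushout ι χ, pushout.inr _ _, pushout.inl _ _, inferInstance, killed_pushout _ _ hX hZ,
    pushout.condition⟩

/-- a map killed by `I` factors through an object killed by `I` -/
theorem exists_killed_factor {I : Ideal A} {X Y : C} {φ : X ⟶ Y} (h : HomKilledBy I φ) :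
    ∃ (Q : C) (p : X ⟶ Q) (i : Q ⟶ Y), Mono i ∧ Epi p ∧ KilledBy I Q ∧ p ≫ i = φ := by
  refine ⟨imageSubobject φ, factorThruImageSubobject φ, (imageSubobject φ).arrow, inferInstance,
    inferInstance, ?_, imageSubobject_arrow_comp φ⟩
  refine hom_killed_of_epi (factorThruImageSubobject φ) (ψ := 𝟙 _)
    (hom_killed_of_mono (imageSubobject φ).arrow ?_)
  simpa using h

theorem hom_killed_mul {I I' : Ideal A} {X Y : C} {φ : X ⟶ Y}
    (h : ∀ a ∈ I, ∀ b ∈ I', (a * b) • φ = 0) : HomKilledBy (I * I') φ := fun c hc =>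
  Submodule.mul_induction_on hc h fun x y hx hy => by rw [add_smul, hx, hy, add_zero]

theorem quot_epi {I : Ideal A} {X Q : C} {p : X ⟶ Q} (h : IsQuot I p) : Epi p := by
  refine epi_of_cancel fun Z ψ hψ => ?_
  obtain ⟨_, -, hu⟩ := h.2 Z 0 (fun a _ => smul_zero a)
  exact (hu ψ hψ).trans (hu 0 comp_zero).symm

theorem quot_fac {I : Ideal A} {X Q : C} {p : X ⟶ Q} (h : IsQuot I p) {Y : C} (φ : X ⟶ Y)
    (hφ : HomKilledBy I φ) : ∃ ψ, p ≫ ψ = φ := (h.2 Y φ hφ).exists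

theorem isQuot_mk {I : Ideal A} {X Q : C} (p : X ⟶ Q) [Epi p] (hQ : KilledBy I Q)
    (h : ∀ ⦃Y : C⦄ (φ : X ⟶ Y), HomKilledBy I φ → ∃ ψ, p ≫ ψ = φ) : IsQuot I p := by
  refine ⟨hQ, fun Y φ hφ => ?_⟩
  obtain ⟨ψ, hψ⟩ := h φ hφ
  exact ⟨ψ, hψ, fun ψ' h' => by rw [← cancel_epi p, h', hψ]⟩

theorem isQuot_mk_of_kernel {I : Ideal A} {X Q : C} (p : X ⟶ Q) [Epi p] (hQ : KilledBy I Q)
    (h : ∀ ⦃Y : C⦄ (φ : X ⟶ Y), HomKilledBy I φ → kernel.ι p ≫ φ = 0) : IsQuot I p :=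
  isQuot_mk p hQ fun _ φ hφ => ⟨Abelian.epiDesc p φ (h φ hφ), Abelian.comp_epiDesc _ _ _⟩

theorem quot_vanish {I : Ideal A} {X Q : C} {p : X ⟶ Q} (h : IsQuot I p) {Y : C} {φ : X ⟶ Y}
    (hφ : HomKilledBy I φ) {T : C} {x : T ⟶ X} (hx : x ≫ p = 0) : x ≫ φ = 0 := by
  obtain ⟨ψ, rfl⟩ := quot_fac h φ hφ
  rw [← Category.assoc, hx, zero_comp]

theorem quot_comp {I I' : Ideal A} (hle : I ≤ I') {X Q R : C} {p : X ⟶ Q} {r : Q ⟶ R}
    (hp : IsQuot I p) (hr : IsQuot I' r) : IsQuot I' (p ≫ r) := by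
  have := quot_epi hp
  have := quot_epi hr
  refine isQuot_mk _ hr.1 fun Y φ hφ => ?_
  obtain ⟨ψ, rfl⟩ := quot_fac hp φ (hom_killed_anti hle hφ)
  obtain ⟨χ, rfl⟩ := quot_fac hr ψ (hom_killed_of_epi p hφ)
  exact ⟨χ, Category.assoc _ _ _⟩

theorem quot_of_epi_comp {I : Ideal A} {X Q R : C} (p : X ⟶ Q) [Epi p] {r : Q ⟶ R}
    (h : IsQuot I (p ≫ r)) : IsQuot I r := by
  have := quot_epi h
  have : Epi r := epi_of_epi p r
  refine isQuot_mk _ h.1 fun Y φ hφ => ?_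
  obtain ⟨ψ, hψ⟩ := quot_fac h (p ≫ φ) (hom_killed_precomp p hφ)
  exact ⟨ψ, by rw [← cancel_epi p, ← Category.assoc, hψ]⟩

theorem isQuot_id {I : Ideal A} {X : C} (hX : KilledBy I X) : IsQuot I (𝟙 X) :=
  isQuot_mk _ hX fun _ φ _ => ⟨φ, Category.id_comp φ⟩

theorem quot_iso_right {I : Ideal A} {X Q Q' : C} {p : X ⟶ Q} (h : IsQuot I p) (e : Q ≅ Q') :
    IsQuot I (p ≫ e.hom) := by
  have := quot_epi h
  refine isQuot_mk _ (killed_iso e h.1) fun Y φ hφ => ?_
  obtain ⟨ψ, hψ⟩ := quot_fac h φ hφ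
  exact ⟨e.inv ≫ ψ, by simp [hψ]⟩

theorem quot_iso_left {I : Ideal A} {X X' Q : C} (e : X' ⟶ X) [IsIso e] {p : X ⟶ Q}
    (h : IsQuot I p) : IsQuot I (e ≫ p) := by
  have := quot_epi h
  refine isQuot_mk _ h.1 fun Y φ hφ => ?_
  obtain ⟨ψ, hψ⟩ := quot_fac h (inv e ≫ φ) (hom_killed_precomp _ hφ)
  exact ⟨ψ, by rw [Category.assoc, hψ, IsIso.hom_inv_id_assoc]⟩

theorem exists_quot_of_fg {I : Ideal A} (hI : I.FG) (X : C) :
    ∃ (Q : C) (p : X ⟶ Q), IsQuot I p := by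
  obtain ⟨n, g, rfl⟩ := Submodule.fg_iff_exists_fin_generating_family.1 hI
  refine ⟨cokernel (biproduct.desc fun i : Fin n => g i • 𝟙 X), cokernel.π _, ?_⟩
  set p := cokernel.π (biproduct.desc fun i : Fin n => g i • 𝟙 X)
  have hg : ∀ i, g i • p = 0 := by
    intro i
    have h : (biproduct.ι (fun _ : Fin n => X) i ≫ biproduct.desc fun i : Fin n => g i • 𝟙 X) ≫
        p = 0 := by
      rw [Category.assoc, cokernel.condition, comp_zero]
    rwa [biproduct.ι_desc, Linear.smul_comp, Category.id_comp] at h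
  refine isQuot_mk _ ?_ fun Y φ hφ => ?_
  · intro a ha
    rw [← cancel_epi p, comp_zero, Linear.comp_smul, Category.comp_id]
    induction ha using Submodule.span_induction with
    | mem x hx => obtain ⟨i, rfl⟩ := hx; exact hg i
    | zero => exact zero_smul _ _
    | add x y _ _ hx hy => rw [add_smul, hx, hy, add_zero]
    | smul c x _ hx => rw [smul_eq_mul, mul_smul, hx, smul_zero]
  · refine ⟨cokernel.desc _ φ ?_, cokernel.π_desc _ _ _⟩
    ext i
    simpa using hφ (g i) (Submodule.subset_span ⟨i, rfl⟩)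

theorem exists_quot_of_coproducts [HasCoproducts.{w} C] (I : Ideal A) (X : C) :
    ∃ (Q : C) (p : X ⟶ Q), IsQuot I p := by
  let m : (∐ fun _ : I => X) ⟶ X := Sigma.desc fun a : I => (a : A) • 𝟙 X
  refine ⟨cokernel m, cokernel.π m, ?_⟩
  refine isQuot_mk _ (fun a ha => ?_) fun Y φ hφ => ?_
  · rw [← cancel_epi (cokernel.π m), comp_zero, Linear.comp_smul, Category.comp_id]
    have h : (Sigma.ι (fun _ : I => X) ⟨a, ha⟩ ≫ m) ≫ cokernel.π m = 0 := by
      rw [Category.assoc, cokernel.condition, comp_zero]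
    rwa [Sigma.ι_desc, Linear.smul_comp, Category.id_comp] at h
  · refine ⟨cokernel.desc _ φ ?_, cokernel.π_desc _ _ _⟩
    ext a
    simpa [m] using hφ _ a.2

theorem exists_quot_pow {J : Ideal A} (hJ : J.FG ∨ HasCoproducts.{w} C) (k : ℕ) (X : C) :
    ∃ (Q : C) (p : X ⟶ Q), IsQuot (J ^ k) p := by
  rcases hJ with h | h
  · exact exists_quot_of_fg (Ideal.FG.pow h) X
  · exact exists_quot_of_coproducts (J ^ k) X

end Groth.Agent.ARLib
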