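import Groth.Agent.ARLib.Adic

/-!
Exact sequences of systems `J`-adic up to translation.
-/

set_option linter.unusedSectionVars false

universe w v u

open CategoryTheory CategoryTheory.Limits Opposite ARSys

namespace Groth.Agent.ARLib

variable {C : Type u} [Category.{v} C] [Abelian C] {A : Type w} [CommRing A] [Linear A C]
  {J : Ideal A}

/-- pulling the kernel of `g` back along an isomorphism up to translation -/
theorem kernel_comp_arIso {S : ShortComplex (PS C)} (hS : S.ShortExact) {W : PS C} (u : W ⟶ S.X₂)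
    (hu : IsARIso u) : ∃ k : kernel (u ≫ S.g) ⟶ S.X₁, k ≫ S.f = kernel.ι _ ≫ u ∧ IsARIso k := by
  have : Mono S.f := hS.mono_f
  let K : KernelFork S.g := KernelFork.ofι (kernel.ι (u ≫ S.g) ≫ u)
    (by rw [Category.assoc, kernel.condition])
  obtain ⟨k, hk⟩ : ∃ k, k ≫ S.f = kernel.ι _ ≫ u :=
    ⟨hS.exact.lift _ (by rw [Category.assoc, kernel.condition]), hS.exact.lift_f _ _⟩
  refine ⟨k, hk, ?_⟩
  obtain ⟨t, ⟨q⟩⟩ := exists_qinv hu
  have hka : ∀ m, k.app (op m) ≫ S.f.app (op m) = (kernel.ι (u ≫ S.g)).app (op m) ≫ u.app (op m) :=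
    fun m => NatTrans.congr_app hk (op m)
  refine isARIso_of_bounds (r := t) (s := t) ?_ ?_
  · intro n T x hx
    have := mono_app (kernel.ι (u ≫ S.g)) n
    rw [← cancel_mono ((kernel.ι (u ≫ S.g)).app (op n)), zero_comp, Category.assoc, sm, tr_nat,
      ← Category.assoc]
    refine q.kerBound n _ ?_
    rw [Category.assoc, ← hka, ← Category.assoc, hx, zero_comp]
  · intro n T ψ hψ
    have := mono_app S.f n
    let S' : ShortComplex (PS C) := ShortComplex.mk (kernel.ι (u ≫ S.g)) (u ≫ S.g) (kernel.condition _)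
    have hS' : S'.Exact := ShortComplex.exact_of_f_is_kernel _ (kernelIsKernel _)
    obtain ⟨T', e, he, y, (hy : e ≫ S.f.app (op (n + t)) ≫ q.v n =
        y ≫ (kernel.ι (u ≫ S.g)).app (op n))⟩ := mid_lift hS' n (S.f.app (op (n + t)) ≫ q.v n) (by
      show (S.f.app (op (n + t)) ≫ q.v n) ≫ u.app (op n) ≫ S.g.app (op n) = 0
      rw [Category.assoc, ← Category.assoc (q.v n), q.vu, sm, ← tr_nat_assoc, short_f_g, comp_zero])
    have h1 : e ≫ sm S.X₁ t n = y ≫ k.app (op n) := by
      rw [← cancel_mono (S.f.app (op n)), Category.assoc, Category.assoc, hka, ← Category.assoc y,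
        ← hy, sm, tr_nat, Category.assoc, Category.assoc, q.vu]
    rw [← cancel_epi e, comp_zero, ← Category.assoc, h1, Category.assoc, hψ, comp_zero]

theorem qinv_strict_epi {X Y : PS C} {u : X ⟶ Y} {t : ℕ} (q : QInv u t) (hX : IsStrict X) (n : ℕ) :
    Epi (q.v n) := by
  refine epi_of_cancel fun Z ψ hψ => strict_cancel_zero hX (Nat.le_add_right n t) ?_
  show sm X t n ≫ ψ = 0
  rw [← q.uv, Category.assoc, hψ, comp_zero]

/-- uniform Mittag-Leffler for a kernel -/
theorem mlar_X₁ {S : ShortComplex (PS C)} (hS : S.ShortExact) (k₂ : TermKilled J S.X₂)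
    (h₂ : IsMLAR S.X₂) (h₃ : IsARAdic J S.X₃) : IsMLAR S.X₁ := by
  have : Epi S.g := hS.epi_g
  obtain ⟨W, u₂, hmono, hW, hu₂⟩ := exists_strict_sub h₂
  obtain ⟨k, -, hk⟩ := kernel_comp_arIso hS u₂ hu₂
  refine mlar_of_iso_src hk ?_
  obtain ⟨-, Y, u, hY, hu⟩ := h₃
  obtain ⟨t, ⟨q⟩⟩ := exists_qinv hu
  obtain ⟨r₂, -, hc₂⟩ := exists_bounds hu₂
  have kW : TermKilled J W := termKilled_of_mono u₂ k₂
  let w := u₂ ≫ S.g
  let S' : ShortComplex (PS C) := ShortComplex.mk (kernel.ι w) w (kernel.condition _)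
  have hS' : S'.Exact := ShortComplex.exact_of_f_is_kernel _ (kernelIsKernel _)
  have hιw : ∀ m, (kernel.ι w).app (op m) ≫ w.app (op m) = 0 := fun m =>
    NatTrans.congr_app (kernel.condition w) (op m)
  let c : ∀ n, W.obj (op (n + t)) ⟶ Y.obj (op n) := fun n => w.app (op (n + t)) ≫ q.v n
  have hcu : ∀ n, c n ≫ u.app (op n) = sm W t n ≫ w.app (op n) := fun n => by
    simp only [c, Category.assoc, q.vu, sm, tr_nat]
  have hcn : ∀ {a b : ℕ} (h : a ≤ b),
      tr W (Nat.add_le_add_right h t) ≫ c a = c b ≫ tr Y h := fun {a b} h => by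
    simp only [c]
    rw [tr_nat_assoc, q.v_tr, Category.assoc]
  have hc : ∀ n, Epi (c n) := by
    intro n
    refine epi_of_cancel fun Z ψ hψ => ?_
    have := qinv_strict_epi q (adic_strict hY) n
    rw [← cancel_epi (q.v n), comp_zero]
    have h1 : u₂.app (op (n + t)) ≫ S.g.app (op (n + t)) ≫ q.v n ≫ ψ = 0 := by
      rw [← hψ]; simp [c, w]
    have h2 := hc₂ (n + t) _ h1
    rw [sm, tr_nat_assoc] at h2
    have := epi_app S.g (n + t + r₂)
    have h3 : tr S.X₃ (Nat.le_add_right (n + t) r₂) ≫ q.v n ≫ ψ = 0 :=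
      (cancel_epi (S.g.app (op (n + t + r₂)))).1 (h2.trans comp_zero.symm)
    have h4 := u.app (op (n + t + r₂)) ≫= h3
    rw [← tr_nat_assoc, ← Category.assoc (u.app (op (n + t))), q.uv, comp_zero, sm,
      tr_comp_assoc] at h4
    have h5 := strict_cancel_zero (adic_strict hY) _ h4
    rw [h5, comp_zero]
  refine (mlar_iff _).2 ⟨t, fun n s hs T ψ hψ => ?_⟩
  have := mono_app (kernel.ι w) n
  obtain ⟨Q, p, i, hi, hp, hQ, hpi⟩ := exists_killed_factor
    (killed_smul' (killed_of_mono ((kernel.ι w).app (op n)) (kW n)) ψ)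
  obtain ⟨P, j, χ, hj, hP, hχ⟩ := extend_mono_killed ((kernel.ι w).app (op n)) p (kW n) hQ
  have hp0 : sm (kernel w) s n ≫ p = 0 := by
    rw [← cancel_mono i, Category.assoc, hpi, hψ, zero_comp]
  have := hc (n + s)
  have hker : kernel.ι (c (n + s)) ≫ sm W t (n + s) ≫ sm W s n ≫ χ = 0 := by
    obtain ⟨T', e, he, y, (hy : e ≫ kernel.ι (c (n + s)) ≫ sm W t (n + s) =
        y ≫ (kernel.ι w).app (op (n + s)))⟩ := mid_lift hS' (n + s)
      (kernel.ι (c (n + s)) ≫ sm W t (n + s)) (by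
        show (kernel.ι (c (n + s)) ≫ sm W t (n + s)) ≫ w.app (op (n + s)) = 0
        rw [Category.assoc, ← hcu, ← Category.assoc, kernel.condition, zero_comp])
    rw [← cancel_epi e, comp_zero, ← Category.assoc (kernel.ι (c (n + s))), ← Category.assoc e, hy,
      Category.assoc, sm, ← tr_nat_assoc, hχ, ← Category.assoc (tr _ _), hp0, zero_comp, comp_zero]
  obtain ⟨e, he⟩ : ∃ e, c (n + s) ≫ e = sm W t (n + s) ≫ sm W s n ≫ χ :=
    ⟨Abelian.epiDesc _ _ hker, Abelian.comp_epiDesc _ _ _⟩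
  obtain ⟨e', rfl⟩ := quot_fac (hY.2 n (n + s) (Nat.le_add_right n s)) e (killed_smul hP e)
  rw [← Category.assoc, ← hcn] at he
  simp only [Category.assoc, sm, tr_comp_assoc] at he
  rw [← tr_comp_assoc W (Nat.le_add_right n t)
    (Nat.add_le_add_right (Nat.le_add_right n s) t)] at he
  have he' := strict_cancel hW _ he
  have h := (kernel.ι w).app (op (n + t)) ≫= he'
  simp only [c] at h
  rw [Category.assoc, ← Category.assoc ((kernel.ι w).app _), hιw, zero_comp, ← tr_nat_assoc,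
    hχ] at h
  rw [← hpi, ← Category.assoc, show sm (kernel w) t n ≫ p = 0 from
    (cancel_mono j).1 (by rw [Category.assoc, ← h, zero_comp]), zero_comp]

/-- quotient of a system adic up to translation by a uniformly Mittag-Leffler one -/
theorem arAdic_X₃ {S : ShortComplex (PS C)} (hS : S.ShortExact) (k₃ : TermKilled J S.X₃)
    (h₁ : IsMLAR S.X₁) (h₂ : IsARAdic J S.X₂) : IsARAdic J S.X₃ := by
  have : Epi S.g := hS.epi_g
  obtain ⟨-, Y, u, hY, hu⟩ := h₂
  obtain ⟨k, -, hk⟩ := kernel_comp_arIso hS u hu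
  obtain ⟨K', u', hmono, hK', hu'⟩ := exists_strict_sub (mlar_of_iso_tgt hk h₁)
  let i := u' ≫ kernel.ι (u ≫ S.g)
  have hi : Mono i := mono_comp _ _
  let S' : ShortComplex (PS C) := ShortComplex.mk i (cokernel.π i) (cokernel.condition i)
  have hS' : S'.ShortExact :=
    { exact := ShortComplex.exact_of_g_is_cokernel _ (cokernelIsCokernel i)
      mono_f := hi
      epi_g := inferInstanceAs (Epi (cokernel.π i)) }
  let t : cokernel i ⟶ S.X₃ := cokernel.desc i (u ≫ S.g) (by
    simp only [i, Category.assoc, kernel.condition, comp_zero])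
  have hπt : ∀ m, (cokernel.π i).app (op m) ≫ t.app (op m) = u.app (op m) ≫ S.g.app (op m) :=
    fun m => NatTrans.congr_app (cokernel.π_desc i _ _) (op m)
  refine ⟨k₃, cokernel i, t, adic_X₃ hS' hK' hY, ?_⟩
  obtain ⟨a, -, hc⟩ := exists_bounds hu
  obtain ⟨b, -, hc'⟩ := exists_bounds hu'
  refine isARIso_of_bounds (r := b) (s := a) ?_ ?_
  · intro n T x hx
    have := epi_app (cokernel.π i) (n + b)
    obtain ⟨T', e, he, y, hy⟩ :=
      surjective_up_to_refinements_of_epi ((cokernel.π i).app (op (n + b))) x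
    let Sk : ShortComplex (PS C) :=
      ShortComplex.mk (kernel.ι (u ≫ S.g)) (u ≫ S.g) (kernel.condition _)
    obtain ⟨T'', e', he', z, (hz : e' ≫ y = z ≫ (kernel.ι (u ≫ S.g)).app (op (n + b)))⟩ :=
      mid_lift (ShortComplex.exact_of_f_is_kernel Sk (kernelIsKernel _)) (n + b) y (by
        show y ≫ u.app (op (n + b)) ≫ S.g.app (op (n + b)) = 0
        rw [← hπt, ← Category.assoc, ← hy, Category.assoc, hx, comp_zero])
    have h0 : u'.app (op n) ≫ (kernel.ι (u ≫ S.g)).app (op n) ≫ (cokernel.π i).app (op n) = 0 :=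
      (Category.assoc _ _ _).symm.trans (NatTrans.congr_app (cokernel.condition i) (op n))
    rw [← cancel_epi (e' ≫ e), comp_zero, Category.assoc, ← Category.assoc e, hy, Category.assoc,
      sm, ← tr_nat, ← Category.assoc e', hz, Category.assoc, ← tr_nat_assoc, hc' n _ h0, comp_zero]
  · intro n T ψ hψ
    have := epi_app S.g (n + a)
    rw [← cancel_epi (S.g.app (op (n + a))), comp_zero, sm, ← tr_nat_assoc]
    refine hc n _ ?_
    rw [← Category.assoc, ← hπt, Category.assoc, hψ, comp_zero]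

/-- extensions of systems adic up to translation -/
theorem arAdic_X₂ (hJ : J.FG ∨ HasCoproducts.{w} C) {S : ShortComplex (PS C)} (hS : S.ShortExact)
    (k₂ : TermKilled J S.X₂) (h₁ : IsARAdic J S.X₁) (h₃ : IsARAdic J S.X₃) :
    IsARAdic J S.X₂ := by
  have : Mono S.f := hS.mono_f
  have : Epi S.g := hS.epi_g
  obtain ⟨-, Y, u, hY, hu⟩ := h₃
  -- pull back along `u`
  let E : PS C := pullback S.g u
  let w : E ⟶ Y := pullback.snd _ _
  let a : E ⟶ S.X₂ := pullback.fst _ _
  have hsq : a ≫ S.g = w ≫ u := pullback.condition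
  obtain ⟨t, ⟨q⟩⟩ := exists_qinv hu
  have kE : TermKilled J E := by
    intro n
    have : Mono (biprod.lift (a.app (op n)) (w.app (op n))) := by
      refine ⟨fun {T} x y hxy => ((IsPullback.of_hasPullback S.g u).map
        ((evaluation ℕᵒᵖ C).obj (op n))).hom_ext ?_ ?_⟩
      · have := hxy =≫ biprod.fst
        rwa [Category.assoc, Category.assoc, biprod.lift_fst] at this
      · have := hxy =≫ biprod.snd
        rwa [Category.assoc, Category.assoc, biprod.lift_snd] at this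
    exact killed_of_mono (biprod.lift (a.app (op n)) (w.app (op n))) (killed_biprod (k₂ n) (hY.1 n))
  -- `a` is an isomorphism up to translation
  have hqg : ∀ n, ∃ (l : S.X₂.obj (op (n + t)) ⟶ E.obj (op n)),
      l ≫ a.app (op n) = sm S.X₂ t n ∧ l ≫ w.app (op n) = S.g.app (op (n + t)) ≫ q.v n := by
    intro n
    let hp := (IsPullback.of_hasPullback S.g u).map ((evaluation ℕᵒᵖ C).obj (op n))
    exact ⟨hp.lift (sm S.X₂ t n) (S.g.app (op (n + t)) ≫ q.v n) (by
      show sm S.X₂ t n ≫ S.g.app (op n) = (S.g.app (op (n + t)) ≫ q.v n) ≫ u.app (op n)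
      rw [sm, tr_nat, Category.assoc, q.vu]), hp.lift_fst _ _ _, hp.lift_snd _ _ _⟩
  choose l hl₁ hl₂ using hqg
  have hext : ∀ n {T : C} (x y : T ⟶ E.obj (op n)), x ≫ a.app (op n) = y ≫ a.app (op n) →
      x ≫ w.app (op n) = y ≫ w.app (op n) → x = y := fun n T x y h h' =>
    ((IsPullback.of_hasPullback S.g u).map ((evaluation ℕᵒᵖ C).obj (op n))).hom_ext h h'
  have qa : QInv a t := {
    v := l
    v_tr := fun {x y} h => by
      refine hext x _ _ ?_ ?_
      · rw [Category.assoc, hl₁, Category.assoc, tr_nat, ← Category.assoc (l y), hl₁, sm, sm,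
          tr_comp, tr_comp]
      · rw [Category.assoc, hl₂, Category.assoc, tr_nat, ← Category.assoc (l y), hl₂, tr_nat_assoc,
          q.v_tr, Category.assoc]
    vu := hl₁
    uv := fun n => by
      refine hext n _ _ ?_ ?_
      · rw [Category.assoc, hl₁, sm, sm, tr_nat]
      · have hsq' : a.app (op (n + t)) ≫ S.g.app (op (n + t)) =
            w.app (op (n + t)) ≫ u.app (op (n + t)) := NatTrans.congr_app hsq _
        rw [Category.assoc, hl₂, ← Category.assoc, hsq', Category.assoc, q.uv, sm, sm, tr_nat] }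
  -- the strict part
  have hE : IsMLAR S.X₂ := by
    obtain ⟨r, hr⟩ := (mlar_iff S.X₁).1 (mlar_of_arAdic h₁)
    obtain ⟨r', hr'⟩ := (mlar_iff S.X₃).1 (mlar_of_iso_src hu (mlar_of_strict (adic_strict hY)))
    refine (mlar_iff S.X₂).2 ⟨r + r', fun n s hs T ψ hψ => ?_⟩
    have h1 : sm S.X₁ r n ≫ S.f.app (op n) ≫ ψ = 0 := by
      refine hr n s (le_trans (Nat.le_add_right r r') hs) _ ?_
      rw [sm, tr_nat_assoc]
      exact (congrArg _ hψ).trans comp_zero
    rw [sm, tr_nat_assoc] at h1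
    obtain ⟨χ, hχ⟩ := exact_desc hS (n + r) (sm S.X₂ r n ≫ ψ) h1
    obtain ⟨d, rfl⟩ := Nat.exists_eq_add_of_le (le_trans (Nat.le_add_right r r') hs)
    have h2 : sm S.X₃ d (n + r) ≫ χ = 0 := by
      have := epi_app S.g (n + r + d)
      rw [← cancel_epi (S.g.app (op (n + r + d))), comp_zero, sm, ← tr_nat_assoc, hχ, sm,
        tr_comp_assoc]
      have h := tr S.X₂ (show n + (r + d) ≤ n + r + d by omega) ≫= hψ
      rwa [sm, tr_comp_assoc, comp_zero] at h
    have h3 := S.g.app (op (n + r + r')) ≫= hr' (n + r) d (by omega) χ h2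
    rw [sm, ← tr_nat_assoc, hχ, sm, tr_comp_assoc, comp_zero] at h3
    have h := tr S.X₂ (show n + r + r' ≤ n + (r + r') by omega) ≫= h3
    rwa [tr_comp_assoc, comp_zero] at h
  refine arAdic_of_src a qa.isARIso k₂ ?_
  obtain ⟨W, e, hemono, hW, he⟩ := exists_strict_sub (mlar_of_iso_tgt qa.isARIso hE)
  have kW : TermKilled J W := termKilled_of_mono e kE
  refine arAdic_of_src e he kE ?_
  -- `W ⟶ Y` is a termwise epimorphism
  have hwE : ∀ n, Epi ((e ≫ w).app (op n)) := by
    obtain ⟨b, -, hb⟩ := exists_bounds he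
    have : Epi w := inferInstanceAs (Epi (pullback.snd S.g u))
    intro n
    refine epi_of_cancel fun Z ψ hψ => ?_
    have h := hb n _ ((Category.assoc _ _ _).symm.trans hψ)
    rw [sm, tr_nat_assoc] at h
    have := epi_app w (n + b)
    exact strict_cancel_zero (adic_strict hY) _ ((cancel_epi _).1 (h.trans comp_zero.symm))
  have : Epi (e ≫ w) := (NatTrans.epi_iff_epi_app _).2 fun n => hwE n.unop
  let S' : ShortComplex (PS C) :=
    ShortComplex.mk (kernel.ι (e ≫ w)) (e ≫ w) (kernel.condition _)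
  have hS' : S'.ShortExact :=
    { exact := ShortComplex.exact_of_f_is_kernel _ (kernelIsKernel _)
      mono_f := inferInstanceAs (Mono (kernel.ι _))
      epi_g := inferInstanceAs (Epi (e ≫ w)) }
  -- compare the kernel with `S.X₁`
  obtain ⟨k, -, hk⟩ : ∃ k : kernel (e ≫ w) ⟶ S.X₁, k ≫ S.f = kernel.ι _ ≫ e ≫ a ∧ IsARIso k := by
    obtain ⟨k₀, hk₀, hk₀'⟩ := kernel_comp_arIso (S := S) hS (e ≫ a) (isARIso_comp he qa.isARIso)
    let k₁ : kernel (e ≫ w) ⟶ kernel ((e ≫ a) ≫ S.g) := kernel.lift _ (kernel.ι _) (by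
      rw [Category.assoc, hsq, ← Category.assoc e, ← Category.assoc (kernel.ι _), kernel.condition,
        zero_comp])
    refine ⟨k₁ ≫ k₀, by simp [k₁, hk₀], isARIso_comp ?_ hk₀'⟩
    have hk₁ : ∀ m, k₁.app (op m) ≫ (kernel.ι ((e ≫ a) ≫ S.g)).app (op m) =
        (kernel.ι (e ≫ w)).app (op m) := fun m => NatTrans.congr_app (kernel.lift_ι _ _ _) (op m)
    refine isARIso_of_bounds (r := 0) (s := t) ?_ ?_
    · intro n T x hx
      have := mono_app (kernel.ι (e ≫ w)) (n + 0)
      have : x = 0 := by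
        rw [← cancel_mono ((kernel.ι (e ≫ w)).app (op (n + 0))), zero_comp, ← hk₁, ← Category.assoc,
          hx, zero_comp]
      rw [this, zero_comp]
    · intro n T ψ hψ
      have hcond : (kernel.ι ((e ≫ a) ≫ S.g)).app (op (n + t)) ≫ (e ≫ w).app (op (n + t)) ≫
          u.app (op (n + t)) = 0 := by
        have h : kernel.ι ((e ≫ a) ≫ S.g) ≫ (e ≫ w) ≫ u = 0 := by
          rw [Category.assoc e w u, ← hsq, ← Category.assoc e a S.g]
          exact kernel.condition _
        exact NatTrans.congr_app h (op (n + t))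
      obtain ⟨T', f, hf, y, (hy : f ≫ sm _ t n ≫ (kernel.ι ((e ≫ a) ≫ S.g)).app (op n) =
          y ≫ (kernel.ι (e ≫ w)).app (op n))⟩ := mid_lift hS'.exact n
        (sm (kernel ((e ≫ a) ≫ S.g)) t n ≫ (kernel.ι ((e ≫ a) ≫ S.g)).app (op n)) (by
          show (sm _ t n ≫ (kernel.ι ((e ≫ a) ≫ S.g)).app (op n)) ≫ (e ≫ w).app (op n) = 0
          rw [sm, tr_nat, Category.assoc ((kernel.ι ((e ≫ a) ≫ S.g)).app (op (n + t))), tr_nat,
            ← Category.assoc ((kernel.ι ((e ≫ a) ≫ S.g)).app (op (n + t)))]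
          refine q.kerBound n _ ?_
          exact (Category.assoc _ _ _).trans hcond)
      have h1 : f ≫ sm _ t n = y ≫ k₁.app (op n) := by
        have := mono_app (kernel.ι ((e ≫ a) ≫ S.g)) n
        rw [← cancel_mono ((kernel.ι ((e ≫ a) ≫ S.g)).app (op n)), Category.assoc, hy,
          Category.assoc, hk₁]
      rw [← cancel_epi f, comp_zero, ← Category.assoc, h1, Category.assoc, hψ, comp_zero]
  have hKW : IsMLAR (kernel (e ≫ w)) := mlar_of_iso_tgt hk (mlar_of_arAdic h₁)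
  obtain ⟨K', u', hu'mono, hK', hu'⟩ := exists_strict_sub hKW
  have kK : TermKilled J (kernel (e ≫ w)) := termKilled_of_mono (kernel.ι _) kW
  obtain ⟨r, hr⟩ := arCond_of_arAdic hK'
    (arAdic_of_tgt u' hu' (termKilled_of_mono u' kK) (arAdic_of_tgt k hk kK h₁))
  obtain ⟨s, -, hs⟩ := exists_bounds hu'
  refine arAdic_of_arCond (r := r) hJ hW kW fun m Z φ hφ T x hx => ?_
  obtain ⟨Q, p, i, hi, hp, hQ, rfl⟩ := exists_killed_factor hφ
  suffices x ≫ p = 0 by rw [← Category.assoc, this, zero_comp]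
  -- lift `x` far enough
  have := hW _ _ (Nat.le_add_right (m + 1) s)
  obtain ⟨T', f, hf, z, hz⟩ :=
    surjective_up_to_refinements_of_epi (tr W (Nat.le_add_right (m + 1) s)) x
  rw [← cancel_epi f, comp_zero, ← Category.assoc, hz, Category.assoc]
  have hz0 : z ≫ tr W (show m ≤ m + 1 + s by omega) = 0 := by
    rw [← tr_comp W (Nat.le_succ m) (Nat.le_add_right (m + 1) s), ← Category.assoc, ← hz,
      Category.assoc, hx, comp_zero]
  set ψ : W.obj (op (m + 1 + s)) ⟶ Q := tr W (Nat.le_add_right (m + 1) s) ≫ p with hψ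
  let ι : ∀ n, (kernel (e ≫ w)).obj (op n) ⟶ W.obj (op n) := fun n => (kernel.ι (e ≫ w)).app (op n)
  have hιψ : sm (kernel (e ≫ w)) s (m + 1) ≫ ι (m + 1) ≫ p = ι (m + 1 + s) ≫ ψ := by
    rw [hψ]
    exact tr_nat_assoc (kernel.ι (e ≫ w)) _ p
  -- `ι ≫ ψ` kills the kernel of the transition map to degree `m`
  have hK0 : kernel.ι ((ι (m + 1 + s)) ≫ tr W (show m ≤ m + 1 + s by omega)) ≫
      ι (m + 1 + s) ≫ ψ = 0 := by
    rw [← hιψ]
    set κ := kernel.ι ((ι (m + 1 + s)) ≫ tr W (show m ≤ m + 1 + s by omega))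
    have h1 : (imageSubobject (u'.app (op (m + 1)))).Factors (κ ≫ sm _ s (m + 1)) := by
      refine mem_comp _ ((mem_iff_comp_cokernel _ _).2 ?_)
      exact hs (m + 1) _ ((mem_iff_comp_cokernel _ _).1 (by simpa using mem_image_self _ (𝟙 _)))
    obtain ⟨T'', g, hg, y, hy⟩ := (mem_image _ _).1 h1
    rw [← cancel_epi g, comp_zero, ← Category.assoc κ, ← Category.assoc g, hy, Category.assoc]
    refine hr m (u'.app (op (m + 1)) ≫ ι (m + 1) ≫ p)
      (hom_killed_precomp _ (hom_killed_precomp _ (killed_smul hQ p))) y ?_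
    have := mono_app u' m
    have : Mono (ι m) := mono_app (kernel.ι (e ≫ w)) m
    rw [← cancel_mono (u'.app (op m)), zero_comp, Category.assoc, tr_nat, ← Category.assoc, ← hy,
      ← cancel_mono (ι m), zero_comp]
    simp only [Category.assoc, sm, tr_comp_assoc]
    show g ≫ κ ≫ tr _ _ ≫ (kernel.ι (e ≫ w)).app (op m) = 0
    rw [tr_nat]
    exact (congrArg _ (kernel.condition _)).trans comp_zero
  obtain ⟨I, pI, iI, hiI, hpI, hI, hpiI⟩ := exists_killed_factor (I := J ^ (m + 1))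
    (killed_smul (kW m) (ι (m + 1 + s) ≫ tr W (show m ≤ m + 1 + s by omega)))
  obtain ⟨χ, hχ⟩ : ∃ χ, pI ≫ χ = ι (m + 1 + s) ≫ ψ := by
    refine ⟨Abelian.epiDesc pI _ ?_, Abelian.comp_epiDesc _ _ _⟩
    have h0 : kernel.ι pI ≫ ι (m + 1 + s) ≫ tr W (show m ≤ m + 1 + s by omega) = 0 := by
      rw [← hpiI, ← Category.assoc, kernel.condition, zero_comp]
    rw [← kernel.lift_ι _ _ h0, Category.assoc, hK0, comp_zero]
  obtain ⟨P, j, θ, hj, hP, hθ⟩ := extend_mono_killed iI χ (kW m)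
    (killed_anti (pow_anti J (show m + 1 - r ≤ m + 1 by omega)) hQ)
  obtain ⟨d, hd⟩ := exact_desc hS' (m + 1 + s)
    (ψ ≫ j - tr W (show m ≤ m + 1 + s by omega) ≫ θ) (by
      show ι (m + 1 + s) ≫ _ = 0
      have e1 : ι (m + 1 + s) ≫ ψ ≫ j = pI ≫ χ ≫ j := by
        rw [← Category.assoc, ← hχ, Category.assoc]
      have e2 : ι (m + 1 + s) ≫ tr W (show m ≤ m + 1 + s by omega) ≫ θ = pI ≫ χ ≫ j := by
        rw [← Category.assoc, ← hpiI, Category.assoc, hθ]
      rw [Preadditive.comp_sub, e1, e2, sub_self])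
  obtain ⟨d', rfl⟩ := quot_fac (hY.2 m (m + 1 + s) (by omega)) d (killed_smul hP d)
  have hfin := z ≫= hd
  change z ≫ (e ≫ w).app (op (m + 1 + s)) ≫ _ = _ at hfin
  rw [← tr_nat_assoc, ← Category.assoc z, hz0, zero_comp, Preadditive.comp_sub,
    ← Category.assoc z (tr W _), hz0, zero_comp, sub_zero] at hfin
  rw [← cancel_mono j, zero_comp, Category.assoc, hfin]

end Groth.Agent.ARLib
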